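import Mathlib

/-! Weakly regular sequences of sections, pointwise. -/

set_option autoImplicit false
universe u

namespace Groth.Agent.RegPt

open RingTheory.Sequence

section Ring

variable {R S : Type u} [CommRing R] [CommRing S]

theorem isWeaklyRegular_iff_mem (rs : List R) :
    IsWeaklyRegular R rs ↔ ∀ (i : ℕ) (h : i < rs.length) (a : R),
      rs[i] * a ∈ Ideal.ofList (rs.take i) → a ∈ Ideal.ofList (rs.take i) := by
  rw [isWeaklyRegular_iff]
  refine forall₂_congr fun i h => ?_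
  rw [isSMulRegular_quotient_iff_mem_of_smul_mem]
  simp only [smul_eq_mul, Ideal.mul_top]

theorem mem_ofList_map {R S : Type u} [CommRing R] [CommRing S] (φ : R →+* S) (rs : List R) (i : ℕ) :
    Ideal.ofList ((rs.map φ).take i) = (Ideal.ofList (rs.take i)).map φ := by
  rw [← List.map_take, Ideal.map_ofList]

theorem map_of_flat (φ : R →+* S) (hφ : φ.Flat) (rs : List R) (h : IsWeaklyRegular R rs) :
    IsWeaklyRegular S (rs.map φ) := by
  letI := φ.toAlgebra
  haveI : Module.Flat R S := hφ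
  exact h.of_flat

theorem of_map_of_faithfullyFlat (φ : R →+* S) (hφ : φ.FaithfullyFlat) (rs : List R)
    (h : IsWeaklyRegular S (rs.map φ)) : IsWeaklyRegular R rs := by
  letI := φ.toAlgebra
  haveI : Module.FaithfullyFlat R S := hφ
  rw [isWeaklyRegular_iff_mem] at h ⊢
  intro i hi a ha
  have h' := h i (by simpa using hi) (φ a)
  rw [mem_ofList_map, List.getElem_map, ← map_mul] at h'
  have := h' (Ideal.mem_map_of_mem φ ha)
  rw [← Ideal.comap_map_eq_self_of_faithfullyFlat (B := S) (Ideal.ofList (rs.take i))]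
  exact this

theorem iff_of_flat_local [IsLocalRing R] [IsLocalRing S] (φ : R →+* S) [IsLocalHom φ] (hφ : φ.Flat)
    (rs : List R) : IsWeaklyRegular S (rs.map φ) ↔ IsWeaklyRegular R rs := by
  refine ⟨of_map_of_faithfullyFlat φ ?_ rs, map_of_flat φ hφ rs⟩
  letI := φ.toAlgebra
  haveI : Module.Flat R S := hφ
  haveI : IsLocalHom (algebraMap R S) := ‹IsLocalHom φ›
  exact Module.FaithfullyFlat.of_flat_of_isLocalHom

variable (Rp : ∀ (p : Ideal R) [p.IsPrime], Type u) [∀ (p : Ideal R) [p.IsPrime], CommRing (Rp p)]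
  [∀ (p : Ideal R) [p.IsPrime], Algebra R (Rp p)]
  [∀ (p : Ideal R) [p.IsPrime], IsLocalization.AtPrime (Rp p) p]

theorem iff_forall_prime (rs : List R) :
    IsWeaklyRegular R rs ↔
      ∀ (p : Ideal R) [p.IsPrime], IsWeaklyRegular (Rp p) (rs.map (algebraMap R (Rp p))) := by
  refine ⟨fun h p _ => h.of_isLocalization (Rp p) p.primeCompl, fun h => ?_⟩
  rw [isWeaklyRegular_iff_mem]
  intro i hi a ha
  by_contra hna
  obtain ⟨p, hp, hle⟩ := Ideal.exists_le_maximal ((Ideal.ofList (rs.take i)).colon (Submodule.span R {a}))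
    (fun htop => hna (by
      have := Submodule.mem_colon.mp ((Ideal.eq_top_iff_one _).mp htop) a
        (Submodule.mem_span_singleton_self a)
      simpa using this))
  haveI := hp.isPrime
  have h1 := (isWeaklyRegular_iff_mem _).mp (h p) i (by simpa using hi) (algebraMap R (Rp p) a)
  rw [mem_ofList_map, List.getElem_map, ← map_mul] at h1
  obtain ⟨s, hs, hsa⟩ := (IsLocalization.algebraMap_mem_map_algebraMap_iff p.primeCompl (Rp p) _ _).mp
    (h1 (Ideal.mem_map_of_mem _ ha))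
  refine hs (hle ?_)
  rw [Submodule.mem_colon]
  intro x hx
  obtain ⟨r, rfl⟩ := Submodule.mem_span_singleton.mp hx
  rw [smul_eq_mul, smul_eq_mul, mul_left_comm]
  exact Ideal.mul_mem_left _ r hsa

theorem exists_basicOpen [IsNoetherianRing R] (rs : List R) (p : Ideal R) [p.IsPrime]
    (h : IsWeaklyRegular (Rp p) (rs.map (algebraMap R (Rp p)))) :
    ∃ s : R, s ∉ p ∧ ∀ (q : Ideal R) [q.IsPrime], s ∉ q →
      IsWeaklyRegular (Rp q) (rs.map (algebraMap R (Rp q))) := by
  classical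
  rw [isWeaklyRegular_iff_mem] at h
  -- for each index, a witness outside `p` killing `(I : r)/I`
  have key : ∀ i : Fin rs.length, ∃ s : R, s ∉ p ∧
      ∀ a : R, rs[i.1] * a ∈ Ideal.ofList (rs.take i) → s * a ∈ Ideal.ofList (rs.take i) := by
    intro i
    obtain ⟨T, hT⟩ := IsNoetherian.noetherian
      ((Ideal.ofList (rs.take i)).colon (Submodule.span R {rs[i.1]}))
    have hex : ∀ a ∈ T, ∃ s : R, s ∉ p ∧ s * a ∈ Ideal.ofList (rs.take i) := by
      intro a haT
      have ha : a ∈ (Ideal.ofList (rs.take i)).colon (Submodule.span R {rs[i.1]}) :=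
        hT ▸ Submodule.subset_span haT
      have ha' : rs[i.1] * a ∈ Ideal.ofList (rs.take i) := by
        have := Submodule.mem_colon.mp ha _ (Submodule.mem_span_singleton_self _)
        rwa [smul_eq_mul, mul_comm] at this
      have h1 := h i.1 (by simp) (algebraMap R (Rp p) a)
      rw [mem_ofList_map, List.getElem_map, ← map_mul] at h1
      obtain ⟨s, hs, hsa⟩ := (IsLocalization.algebraMap_mem_map_algebraMap_iff p.primeCompl (Rp p) _ _).mp
        (h1 (Ideal.mem_map_of_mem _ ha'))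
      exact ⟨s, hs, hsa⟩
    choose s hs hsa using hex
    refine ⟨∏ a ∈ T.attach, s a.1 a.2,
      fun hp => ?_, fun a ha => ?_⟩
    · obtain ⟨a, -, ha⟩ := Ideal.IsPrime.prod_mem_iff.mp hp
      exact hs a.1 a.2 ha
    · have hmem : a ∈ Submodule.span R (T : Set R) := by
        rw [hT, Submodule.mem_colon]
        intro x hx
        obtain ⟨r, rfl⟩ := Submodule.mem_span_singleton.mp hx
        rw [smul_eq_mul, smul_eq_mul, mul_left_comm]
        exact Ideal.mul_mem_left _ r (by rwa [mul_comm])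
      clear ha
      induction hmem using Submodule.span_induction with
      | mem x hx =>
        obtain ⟨c, hc⟩ := Finset.dvd_prod_of_mem (fun a : {a // a ∈ T} => s a.1 a.2)
          (Finset.mem_attach T ⟨x, hx⟩)
        rw [hc]
        have : s x hx * c * x = c * (s x hx * x) := by ring
        rw [this]
        exact Ideal.mul_mem_left _ c (hsa x hx)
      | zero => simp
      | add x y _ _ hx hy => rw [mul_add]; exact add_mem hx hy
      | smul r x _ hx => rw [smul_eq_mul, mul_left_comm]; exact Ideal.mul_mem_left _ r hx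
  choose s hs hsa using key
  refine ⟨∏ i, s i, fun hp => ?_, fun q _ hq => ?_⟩
  · obtain ⟨i, -, hi⟩ := Ideal.IsPrime.prod_mem_iff.mp hp
    exact hs i hi
  rw [isWeaklyRegular_iff_mem]
  intro i hi x hx
  have hi' : i < rs.length := by simpa using hi
  rw [mem_ofList_map, List.getElem_map] at hx
  rw [mem_ofList_map]
  obtain ⟨⟨a, t⟩, hat⟩ := IsLocalization.surj q.primeCompl x
  have hu : IsUnit (algebraMap R (Rp q) t.1) := IsLocalization.map_units _ t
  have h2 : algebraMap R (Rp q) (rs[i] * a) ∈ (Ideal.ofList (rs.take i)).map (algebraMap R (Rp q)) := by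
    rw [map_mul, ← hat, ← mul_assoc]
    exact Ideal.mul_mem_right _ _ hx
  obtain ⟨t', ht', hta⟩ := (IsLocalization.algebraMap_mem_map_algebraMap_iff q.primeCompl (Rp q) _ _).mp h2
  have h3 : s ⟨i, hi'⟩ * (t' * a) ∈ Ideal.ofList (rs.take i) :=
    hsa ⟨i, hi'⟩ _ (by
      have : rs[i] * (t' * a) = t' * (rs[i] * a) := by ring
      rw [this]; exact hta)
  have hst : s ⟨i, hi'⟩ * t' ∉ q := by
    intro hmem
    rcases ‹q.IsPrime›.mem_or_mem hmem with h' | h'
    · exact hq (Ideal.IsPrime.prod_mem_iff.mpr ⟨⟨i, hi'⟩, Finset.mem_univ _, h'⟩)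
    · exact ht' h'
  have h4 : algebraMap R (Rp q) a ∈ (Ideal.ofList (rs.take i)).map (algebraMap R (Rp q)) :=
    (IsLocalization.algebraMap_mem_map_algebraMap_iff q.primeCompl (Rp q) _ _).mpr
      ⟨_, hst, by rw [mul_assoc]; exact h3⟩
  rw [← hat] at h4
  exact (Ideal.mul_unit_mem_iff_mem _ hu).mp h4

end Ring

section Scheme

open AlgebraicGeometry CategoryTheory

/-- The global sections `gs` form a weakly regular sequence in the stalk at `x`. -/
def IsRegAt (X : Scheme.{u}) (gs : List Γ(X, ⊤)) (x : X) : Prop :=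
  IsWeaklyRegular (X.presheaf.stalk x) (gs.map (fun g => (X.presheaf.germ ⊤ x trivial).hom g))

theorem isRegAt_map_iff {X Y : Scheme.{u}} (f : Y ⟶ X) [Flat f] (gs : List Γ(X, ⊤)) (y : Y) :
    IsRegAt Y (gs.map (fun g => f.appTop.hom g)) y ↔ IsRegAt X gs (f y) := by
  have e : (gs.map (fun g => f.appTop.hom g)).map (fun g => (Y.presheaf.germ ⊤ y trivial).hom g) =
      (gs.map (fun g => (X.presheaf.germ ⊤ (f y) trivial).hom g)).map (f.stalkMap y).hom := by
    simp only [List.map_map]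
    refine List.map_congr_left fun g _ => ?_
    exact (Scheme.Hom.germ_stalkMap_apply f ⊤ y trivial g).symm
  unfold IsRegAt
  rw [e]
  exact iff_of_flat_local _ (Flat.stalkMap f y) _

theorem isWeaklyRegular_affine_iff {X : Scheme.{u}} (gs : List Γ(X, ⊤)) (U : X.affineOpens) :
    IsWeaklyRegular Γ(X, U.1)
        (gs.map (fun g => (X.presheaf.map (homOfLE (le_top : U.1 ≤ ⊤)).op).hom g)) ↔
      ∀ x ∈ U.1, IsRegAt X gs x := by
  letI : ∀ (p : Ideal Γ(X, U.1)) [p.IsPrime],
      Algebra Γ(X, U.1) (X.presheaf.stalk (U.2.fromSpec ⟨p, ‹_›⟩)) := fun p _ =>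
    (X.presheaf.germ U.1 (U.2.fromSpec ⟨p, ‹_›⟩)
      (U.2.range_fromSpec ▸ Set.mem_range_self _ : _ ∈ (U.1 : Set X))).hom.toAlgebra
  haveI : ∀ (p : Ideal Γ(X, U.1)) [p.IsPrime],
      IsLocalization.AtPrime (X.presheaf.stalk (U.2.fromSpec ⟨p, ‹_›⟩)) p := fun p _ =>
    U.2.isLocalization_stalk' ⟨p, ‹_›⟩ (U.2.range_fromSpec ▸ Set.mem_range_self _ : _ ∈ (U.1 : Set X))
  have e : ∀ (p : Ideal Γ(X, U.1)) [p.IsPrime],
      (gs.map (fun g => (X.presheaf.map (homOfLE (le_top : U.1 ≤ ⊤)).op).hom g)).map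
        (algebraMap Γ(X, U.1) (X.presheaf.stalk (U.2.fromSpec ⟨p, ‹_›⟩))) =
      gs.map (fun g => (X.presheaf.germ ⊤ (U.2.fromSpec ⟨p, ‹_›⟩) trivial).hom g) := by
    intro p _
    rw [List.map_map]
    refine List.map_congr_left fun g _ => ?_
    exact TopCat.Presheaf.germ_res_apply X.presheaf (homOfLE (le_top : U.1 ≤ ⊤)) _ _ g
  rw [iff_forall_prime (fun p _ => X.presheaf.stalk (U.2.fromSpec ⟨p, ‹_›⟩))]
  refine ⟨fun h x hx => ?_, fun h p _ => ?_⟩
  · obtain ⟨⟨p, hp⟩, rfl⟩ : x ∈ Set.range U.2.fromSpec := by rw [U.2.range_fromSpec]; exact hx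
    have := h p
    rw [e p] at this
    exact this
  · rw [e p]
    exact h _ (U.2.range_fromSpec ▸ Set.mem_range_self _ : _ ∈ (U.1 : Set X))

theorem isOpen_isRegAt (X : Scheme.{u}) [IsLocallyNoetherian X] (gs : List Γ(X, ⊤)) :
    IsOpen {x : X | IsRegAt X gs x} := by
  rw [isOpen_iff_forall_mem_open]
  intro x hx
  obtain ⟨U, hU, hxU, -⟩ := exists_isAffineOpen_mem_and_subset (x := x) (U := ⊤) trivial
  haveI : IsNoetherianRing Γ(X, U) := IsLocallyNoetherian.component_noetherian ⟨U, hU⟩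
  letI : ∀ (p : Ideal Γ(X, U)) [p.IsPrime],
      Algebra Γ(X, U) (X.presheaf.stalk (hU.fromSpec ⟨p, ‹_›⟩)) := fun p _ =>
    (X.presheaf.germ U (hU.fromSpec ⟨p, ‹_›⟩)
      (hU.range_fromSpec ▸ Set.mem_range_self _ : _ ∈ (U : Set X))).hom.toAlgebra
  haveI : ∀ (p : Ideal Γ(X, U)) [p.IsPrime],
      IsLocalization.AtPrime (X.presheaf.stalk (hU.fromSpec ⟨p, ‹_›⟩)) p := fun p _ =>
    hU.isLocalization_stalk' ⟨p, ‹_›⟩ (hU.range_fromSpec ▸ Set.mem_range_self _ : _ ∈ (U : Set X))
  have e : ∀ (p : Ideal Γ(X, U)) [p.IsPrime],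
      (gs.map (fun g => (X.presheaf.map (homOfLE (le_top : U ≤ ⊤)).op).hom g)).map
        (algebraMap Γ(X, U) (X.presheaf.stalk (hU.fromSpec ⟨p, ‹_›⟩))) =
      gs.map (fun g => (X.presheaf.germ ⊤ (hU.fromSpec ⟨p, ‹_›⟩) trivial).hom g) := by
    intro p _
    rw [List.map_map]
    refine List.map_congr_left fun g _ => ?_
    exact TopCat.Presheaf.germ_res_apply X.presheaf (homOfLE (le_top : U ≤ ⊤)) _ _ g
  obtain ⟨⟨p, hp⟩, rfl⟩ : x ∈ Set.range hU.fromSpec := by rw [hU.range_fromSpec]; exact hxU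
  obtain ⟨s, hs, hreg⟩ := exists_basicOpen (fun p _ => X.presheaf.stalk (hU.fromSpec ⟨p, ‹_›⟩))
    (gs.map (fun g => (X.presheaf.map (homOfLE (le_top : U ≤ ⊤)).op).hom g)) p
    (by rw [e p]; exact hx)
  refine ⟨X.basicOpen s, fun y hy => ?_, (X.basicOpen s).2, ?_⟩
  · obtain ⟨⟨q, hq⟩, rfl⟩ : y ∈ Set.range hU.fromSpec := by
      rw [hU.range_fromSpec]; exact X.basicOpen_le s hy
    have hsq : s ∉ q := by
      have : (⟨q, hq⟩ : PrimeSpectrum _) ∈ PrimeSpectrum.basicOpen s := by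
        rw [← hU.fromSpec_preimage_basicOpen s]; exact hy
      simpa using this
    have := hreg q hsq
    rw [e q] at this
    exact this
  · have : (⟨p, hp⟩ : PrimeSpectrum _) ∈ hU.fromSpec ⁻¹ᵁ X.basicOpen s := by
      rw [hU.fromSpec_preimage_basicOpen s]; exact hs
    exact this

end Scheme

end Groth.Agent.RegPt
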