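import Groth.Prelude.Def_RegImm
import Groth.Agent.RegPt.Basic
import Groth.Agent.RegImmLib.Basic

/-! Charts of regular immersions. -/

set_option autoImplicit false
set_option linter.style.haveILetI false
universe u

namespace Groth.Agent.RegPt

open AlgebraicGeometry CategoryTheory RingTheory.Sequence

section Ring

variable {R : Type u} [CommRing R]

/-- Containment of a finitely generated ideal after localizing spreads out. -/
theorem exists_mul_mem_of_map_le (S : Type u) [CommRing S] [Algebra R S] (p : Ideal R) [p.IsPrime]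
    [IsLocalization.AtPrime S p] {I J : Ideal R} (hI : I.FG)
    (h : I.map (algebraMap R S) ≤ J.map (algebraMap R S)) :
    ∃ s : R, s ∉ p ∧ ∀ a ∈ I, s * a ∈ J := by
  classical
  obtain ⟨T, rfl⟩ := hI
  have hex : ∀ a ∈ T, ∃ s : R, s ∉ p ∧ s * a ∈ J := fun a ha => by
    obtain ⟨s, hs, hsa⟩ := (IsLocalization.algebraMap_mem_map_algebraMap_iff p.primeCompl S _ _).mp
      (h (Ideal.mem_map_of_mem _ (Ideal.subset_span ha)))
    exact ⟨s, hs, hsa⟩
  choose s hs hsa using hex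
  refine ⟨∏ a ∈ T.attach, s a.1 a.2, fun hp => ?_, fun a ha => ?_⟩
  · obtain ⟨a, -, ha⟩ := Ideal.IsPrime.prod_mem_iff.mp hp
    exact hs a.1 a.2 ha
  induction ha using Submodule.span_induction with
  | mem x hx =>
    obtain ⟨c, hc⟩ := Finset.dvd_prod_of_mem (fun a : {a // a ∈ T} => s a.1 a.2)
      (Finset.mem_attach T ⟨x, hx⟩)
    rw [hc]
    have : s x hx * c * x = c * (s x hx * x) := by ring
    rw [this]
    exact Ideal.mul_mem_left _ c (hsa x hx)
  | zero => simp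
  | add x y _ _ hx hy => rw [mul_add]; exact add_mem hx hy
  | smul r x _ hx => rw [smul_eq_mul, mul_left_comm]; exact Ideal.mul_mem_left _ r hx

theorem map_le_map_of_mul_mem {S : Type u} [CommRing S] (φ : R →+* S) {I J : Ideal R} {s : R}
    (hs : IsUnit (φ s)) (h : ∀ a ∈ I, s * a ∈ J) : I.map φ ≤ J.map φ := by
  rw [Ideal.map_le_iff_le_comap]
  intro a ha
  have := Ideal.mem_map_of_mem φ (h a ha)
  rw [map_mul, mul_comm] at this
  exact (Ideal.mul_unit_mem_iff_mem _ hs).mp this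

theorem eq_of_map_eq_of_faithfullyFlat {S : Type u} [CommRing S] (φ : R →+* S) (hφ : φ.FaithfullyFlat)
    {I J : Ideal R} (h : I.map φ = J.map φ) : I = J := by
  letI := φ.toAlgebra
  haveI : Module.FaithfullyFlat R S := hφ
  rw [← Ideal.comap_map_eq_self_of_faithfullyFlat (B := S) I,
    ← Ideal.comap_map_eq_self_of_faithfullyFlat (B := S) J]
  exact congrArg (Ideal.comap φ) h

end Ring

section Germs

variable {X Y : Scheme.{u}}

/-- The sections `rs` over `U` form a weakly regular sequence in the stalk at `x`. -/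
def IsRegAtOn {U : X.Opens} (rs : List Γ(X, U)) (x : X) (hx : x ∈ U) : Prop :=
  IsWeaklyRegular (X.presheaf.stalk x) (rs.map (X.presheaf.germ U x hx).hom)

theorem appLE_germ (f : Y ⟶ X) {U : X.Opens} {V : Y.Opens} (e : V ≤ f ⁻¹ᵁ U) (y : Y) (hy : y ∈ V)
    (r : Γ(X, U)) :
    (Y.presheaf.germ V y hy).hom ((f.appLE U V e).hom r) =
      (f.stalkMap y).hom ((X.presheaf.germ U (f y) (e hy)).hom r) := by
  rw [Scheme.Hom.germ_stalkMap_apply f U y (e hy) r, Scheme.Hom.appLE, CommRingCat.comp_apply]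
  exact TopCat.Presheaf.germ_res_apply Y.presheaf (homOfLE e) y hy _

theorem flat_local_stalkMap (f : Y ⟶ X) [Flat f] (y : Y) : (f.stalkMap y).hom.FaithfullyFlat := by
  letI := (f.stalkMap y).hom.toAlgebra
  haveI : Module.Flat (X.presheaf.stalk (f y)) (Y.presheaf.stalk y) := Flat.stalkMap f y
  haveI : IsLocalHom (algebraMap (X.presheaf.stalk (f y)) (Y.presheaf.stalk y)) :=
    inferInstanceAs (IsLocalHom (f.stalkMap y).hom)
  exact Module.FaithfullyFlat.of_flat_of_isLocalHom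

theorem isRegAtOn_map_iff (f : Y ⟶ X) [Flat f] {U : X.Opens} {V : Y.Opens} (e : V ≤ f ⁻¹ᵁ U)
    (rs : List Γ(X, U)) (y : Y) (hy : y ∈ V) :
    IsRegAtOn (rs.map (f.appLE U V e).hom) y hy ↔ IsRegAtOn rs (f y) (e hy) := by
  have he : (rs.map (f.appLE U V e).hom).map (Y.presheaf.germ V y hy).hom =
      (rs.map (X.presheaf.germ U (f y) (e hy)).hom).map (f.stalkMap y).hom := by
    simp only [List.map_map]
    exact List.map_congr_left fun r _ => appLE_germ f e y hy r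
  unfold IsRegAtOn
  rw [he]
  exact iff_of_flat_local _ (Flat.stalkMap f y) _

theorem isRegAtOn_res {U V : X.Opens} (e : V ≤ U) (rs : List Γ(X, U)) (x : X) (hx : x ∈ V) :
    IsRegAtOn (rs.map (X.presheaf.map (homOfLE e).op).hom) x hx ↔ IsRegAtOn rs x (e hx) := by
  unfold IsRegAtOn
  rw [List.map_map]
  exact iff_of_eq (congrArg _ (List.map_congr_left fun r _ =>
    TopCat.Presheaf.germ_res_apply X.presheaf (homOfLE e) x hx r))

theorem mem_of_fromSpec {U : X.Opens} (hU : IsAffineOpen U) (p : PrimeSpectrum Γ(X, U)) :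
    hU.fromSpec p ∈ U := by
  show hU.fromSpec p ∈ (U : Set X)
  rw [← hU.range_fromSpec]
  exact Set.mem_range_self _

theorem isWeaklyRegular_iff_forall {U : X.Opens} (hU : IsAffineOpen U) (rs : List Γ(X, U)) :
    IsWeaklyRegular Γ(X, U) rs ↔ ∀ (x : X) (hx : x ∈ U), IsRegAtOn rs x hx := by
  letI : ∀ (p : Ideal Γ(X, U)) [p.IsPrime],
      Algebra Γ(X, U) (X.presheaf.stalk (hU.fromSpec ⟨p, ‹_›⟩)) := fun p _ =>
    (X.presheaf.germ U (hU.fromSpec ⟨p, ‹_›⟩) (mem_of_fromSpec hU ⟨p, ‹_›⟩)).hom.toAlgebra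
  haveI : ∀ (p : Ideal Γ(X, U)) [p.IsPrime],
      IsLocalization.AtPrime (X.presheaf.stalk (hU.fromSpec ⟨p, ‹_›⟩)) p := fun p _ =>
    hU.isLocalization_stalk' ⟨p, ‹_›⟩ (mem_of_fromSpec hU ⟨p, ‹_›⟩)
  rw [iff_forall_prime (fun p _ => X.presheaf.stalk (hU.fromSpec ⟨p, ‹_›⟩))]
  refine ⟨fun h x hx => ?_, fun h p _ => h _ (mem_of_fromSpec hU ⟨p, ‹_›⟩)⟩
  obtain ⟨⟨p, hp⟩, rfl⟩ : x ∈ Set.range hU.fromSpec := by rw [hU.range_fromSpec]; exact hx
  exact h p

theorem exists_nhd_isRegAtOn [IsLocallyNoetherian X] {U : X.Opens} (hU : IsAffineOpen U)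
    (rs : List Γ(X, U)) (x : X) (hx : x ∈ U) (h : IsRegAtOn rs x hx) :
    ∃ g : Γ(X, U), x ∈ X.basicOpen g ∧
      ∀ (y : X) (hy : y ∈ U), y ∈ X.basicOpen g → IsRegAtOn rs y hy := by
  haveI : IsNoetherianRing Γ(X, U) := IsLocallyNoetherian.component_noetherian ⟨U, hU⟩
  letI : ∀ (p : Ideal Γ(X, U)) [p.IsPrime],
      Algebra Γ(X, U) (X.presheaf.stalk (hU.fromSpec ⟨p, ‹_›⟩)) := fun p _ =>
    (X.presheaf.germ U (hU.fromSpec ⟨p, ‹_›⟩) (mem_of_fromSpec hU ⟨p, ‹_›⟩)).hom.toAlgebra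
  haveI : ∀ (p : Ideal Γ(X, U)) [p.IsPrime],
      IsLocalization.AtPrime (X.presheaf.stalk (hU.fromSpec ⟨p, ‹_›⟩)) p := fun p _ =>
    hU.isLocalization_stalk' ⟨p, ‹_›⟩ (mem_of_fromSpec hU ⟨p, ‹_›⟩)
  obtain ⟨⟨p, hp⟩, rfl⟩ : x ∈ Set.range hU.fromSpec := by rw [hU.range_fromSpec]; exact hx
  obtain ⟨s, hs, hreg⟩ := exists_basicOpen (fun p _ => X.presheaf.stalk (hU.fromSpec ⟨p, ‹_›⟩)) rs p h
  refine ⟨s, ?_, fun y hy hys => ?_⟩
  · have : (⟨p, hp⟩ : PrimeSpectrum _) ∈ hU.fromSpec ⁻¹ᵁ X.basicOpen s := by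
      rw [hU.fromSpec_preimage_basicOpen s]; exact hs
    exact this
  · obtain ⟨⟨q, hq⟩, rfl⟩ : y ∈ Set.range hU.fromSpec := by rw [hU.range_fromSpec]; exact hy
    have hsq : s ∉ q := by
      have : (⟨q, hq⟩ : PrimeSpectrum _) ∈ PrimeSpectrum.basicOpen s := by
        rw [← hU.fromSpec_preimage_basicOpen s]; exact hys
      simpa using this
    exact hreg q hsq

theorem exists_map_le_basicOpen {U : X.Opens} (hU : IsAffineOpen U) (x : X) (hx : x ∈ U)
    {I J : Ideal Γ(X, U)} (hI : I.FG)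
    (h : I.map (X.presheaf.germ U x hx).hom ≤ J.map (X.presheaf.germ U x hx).hom) :
    ∃ g : Γ(X, U), x ∈ X.basicOpen g ∧ ∀ (W : X.Opens) (e : W ≤ U), W ≤ X.basicOpen g →
      I.map (X.presheaf.map (homOfLE e).op).hom ≤ J.map (X.presheaf.map (homOfLE e).op).hom := by
  obtain ⟨⟨p, hp⟩, rfl⟩ : x ∈ Set.range hU.fromSpec := by rw [hU.range_fromSpec]; exact hx
  letI : Algebra Γ(X, U) (X.presheaf.stalk (hU.fromSpec ⟨p, hp⟩)) :=
    (X.presheaf.germ U (hU.fromSpec ⟨p, hp⟩) hx).hom.toAlgebra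
  haveI : IsLocalization.AtPrime (X.presheaf.stalk (hU.fromSpec ⟨p, hp⟩)) p :=
    hU.isLocalization_stalk' ⟨p, hp⟩ hx
  obtain ⟨s, hs, hsa⟩ := exists_mul_mem_of_map_le (X.presheaf.stalk (hU.fromSpec ⟨p, hp⟩)) p hI h
  refine ⟨s, ?_, fun W e hW => map_le_map_of_mul_mem _ ?_ hsa⟩
  · have : (⟨p, hp⟩ : PrimeSpectrum _) ∈ hU.fromSpec ⁻¹ᵁ X.basicOpen s := by
      rw [hU.fromSpec_preimage_basicOpen s]; exact hs
    exact this
  · have h1 := (RingedSpace.isUnit_res_basicOpen X.toLocallyRingedSpace.toRingedSpace s).map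
      (X.presheaf.map (homOfLE hW).op).hom
    have h2 := congrArg (fun φ => φ.hom s)
      (X.presheaf.map_comp (homOfLE (X.basicOpen_le s)).op (homOfLE hW).op)
    simp only [CommRingCat.hom_comp, RingHom.comp_apply] at h2
    exact (show _ from h2) ▸ h1

end Germs

section Chart

variable {X Y X' Y' : Scheme.{u}}

theorem chart_baseChange {i : Y ⟶ X} {g : X' ⟶ X} {i' : Y' ⟶ X'} {g' : Y' ⟶ Y}
    (hsq : IsPullback g' i' i g) {U : X.Opens} (hU : IsAffineOpen U) (hci : IsClosedImmersion (i ∣_ U))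
    {U' : X'.Opens} (hU' : IsAffineOpen U') (hle : U' ≤ g ⁻¹ᵁ U) :
    IsClosedImmersion (i' ∣_ U') ∧
      RingHom.ker (i'.app U').hom = (RingHom.ker (i.app U).hom).map (g.appLE U U' hle).hom := by
  obtain ⟨hUY, hUs⟩ := Synt29.surjective_app_of_isClosedImmersion_restrict i U hU
  have hUY' : i' ⁻¹ᵁ U' = g' ⁻¹ᵁ (i ⁻¹ᵁ U) ⊓ i' ⁻¹ᵁ U' := by
    refine (inf_eq_right.2 fun y hy => ?_).symm
    show i (g' y) ∈ U
    have h1 : i (g' y) = g (i' y) := congrArg (fun φ : Y' ⟶ X => φ y) hsq.w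
    rw [h1]
    exact hle hy
  have hpo := (isIso_pushoutSection_iff hsq hle le_rfl hUY').1
    (isIso_pushoutSection_of_isAffineOpen hsq hle le_rfl hUY' hU hU' hUY)
  have hs : Function.Surjective (i.appLE U (i ⁻¹ᵁ U) le_rfl) := by
    rw [← Scheme.Hom.app_eq_appLE]
    exact hUs
  have hk := RegImmLib.ker_of_isPushout hpo hs
  rw [← Scheme.Hom.app_eq_appLE, ← Scheme.Hom.app_eq_appLE] at hk
  refine ⟨?_, hk⟩
  have h2 := Scheme.Hom.isPullback_resLE hsq hle le_rfl hUY'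
  have h3 : IsClosedImmersion (i.resLE U (i ⁻¹ᵁ U) le_rfl) := by
    rw [Scheme.Hom.resLE_eq_morphismRestrict]
    exact hci
  rw [← Scheme.Hom.resLE_eq_morphismRestrict]
  exact MorphismProperty.of_isPullback (P := @IsClosedImmersion) h2 h3

theorem chart_res (i : Y ⟶ X) {U : X.Opens} (hU : IsAffineOpen U) (hci : IsClosedImmersion (i ∣_ U))
    {U' : X.Opens} (hU' : IsAffineOpen U') (hle : U' ≤ U) :
    IsClosedImmersion (i ∣_ U') ∧
      RingHom.ker (i.app U').hom = (RingHom.ker (i.app U).hom).map (X.presheaf.map (homOfLE hle).op).hom := by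
  have h := chart_baseChange (IsPullback.of_horiz_isIso (show CommSq (𝟙 Y) i i (𝟙 X) from ⟨by simp⟩))
    hU hci hU' hle
  have e : (𝟙 X : X ⟶ X).appLE U U' hle = X.presheaf.map (homOfLE hle).op := by
    rw [Scheme.Hom.appLE, Scheme.Hom.id_app]
    exact Category.id_comp _
  rw [e] at h
  exact h

theorem isRegularImmersionAt_of_chart (i : Y ⟶ X) (z : Y) {U : X.Opens} (hU : IsAffineOpen U)
    (hz : i z ∈ U) (hci : IsClosedImmersion (i ∣_ U)) (rs : List Γ(X, U))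
    (hreg : IsWeaklyRegular Γ(X, U) rs) (hker : RingHom.ker (i.app U).hom = Ideal.ofList rs) :
    RegImm.IsRegularImmersionAt RegImm.Kind.regular i z := by
  refine ⟨⟨U, hU⟩, hz, hci, rs, ⟨hreg, fun h => ?_⟩, hker⟩
  rw [Ideal.smul_eq_mul, Ideal.mul_top, ← hker] at h
  have h1 : (i.app U).hom (1 : Γ(X, U)) = 0 := by
    rw [← RingHom.mem_ker, ← h]; trivial
  rw [map_one] at h1
  have h2 : (Y.presheaf.germ (i ⁻¹ᵁ U) z hz).hom 1 = 0 := by rw [h1, map_zero]
  rw [map_one] at h2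
  exact one_ne_zero h2

/-- Regular immersions at a point are stable under flat base change. -/
theorem isRegularImmersionAt_baseChange {i : Y ⟶ X} {g : X' ⟶ X} [Flat g] {i' : Y' ⟶ X'}
    {g' : Y' ⟶ Y} (hsq : IsPullback g' i' i g) (z' : Y')
    (h : RegImm.IsRegularImmersionAt RegImm.Kind.regular i (g' z')) :
    RegImm.IsRegularImmersionAt RegImm.Kind.regular i' z' := by
  obtain ⟨⟨U, hU⟩, hzU, hci, rs, hreg, hker⟩ := h
  have hx : g (i' z') ∈ U := by
    have h1 : g (i' z') = i (g' z') := (congrArg (fun φ : Y' ⟶ X => φ z') hsq.w).symm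
    rw [h1]
    exact hzU
  obtain ⟨U', hU', hzU', hle⟩ := exists_isAffineOpen_mem_and_subset (U := g ⁻¹ᵁ U) (x := i' z') hx
  obtain ⟨hci', hker'⟩ := chart_baseChange hsq hU hci hU' hle
  refine isRegularImmersionAt_of_chart i' z' hU' hzU' hci' (rs.map (g.appLE U U' hle).hom) ?_ ?_
  · rw [isWeaklyRegular_iff_forall hU']
    exact fun y hy => (isRegAtOn_map_iff g hle rs y hy).mpr
      ((isWeaklyRegular_iff_forall hU rs).mp hreg.1 _ (hle hy))
  · rw [hker', hker, Ideal.map_ofList]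

theorem isOpen_isRegularImmersionAt (i : Y ⟶ X) :
    IsOpen {z : Y | RegImm.IsRegularImmersionAt RegImm.Kind.regular i z} := by
  rw [isOpen_iff_forall_mem_open]
  rintro z ⟨U, hz, hci, rs, h⟩
  exact ⟨(i ⁻¹ᵁ U.1 : Y.Opens), fun w hw => ⟨U, hw, hci, rs, h⟩, (i ⁻¹ᵁ U.1).2, hz⟩

/-- The kernel of a closed chart of a finitely presented immersion is finitely generated. -/
theorem ker_fg_of_lfp (i : Y ⟶ X) [LocallyOfFinitePresentation i] {U : X.Opens} (hU : IsAffineOpen U)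
    (hci : IsClosedImmersion (i ∣_ U)) : (RingHom.ker (i.app U).hom).FG := by
  obtain ⟨hUY, hUs⟩ := Synt29.surjective_app_of_isClosedImmersion_restrict i U hU
  have hfp : (i.app U).hom.FinitePresentation := by
    rw [Scheme.Hom.app_eq_appLE]
    exact i.finitePresentation_appLE hU hUY le_rfl
  letI := (i.app U).hom.toAlgebra
  haveI : Algebra.FinitePresentation Γ(X, U) Γ(Y, i ⁻¹ᵁ U) := hfp
  exact Algebra.FinitePresentation.ker_fG_of_surjective (Algebra.ofId Γ(X, U) Γ(Y, i ⁻¹ᵁ U)) hUs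

end Chart

end Groth.Agent.RegPt
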