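import Groth.Agent.RegPt.Immersion
import Groth.Agent.MorLib.IdealFG2
import Groth.Agent.MorLib.LimFlat
import Groth.Agent.MorLib.LimPoints

/-! Regular immersions descend along flat limits. -/

set_option autoImplicit false
set_option linter.style.haveILetI false
universe u

namespace Groth.Agent.RegPt

open AlgebraicGeometry CategoryTheory Limits RingTheory.Sequence

variable {I : Type u} [SmallCategory I] [IsCofiltered I] {D : I ⥤ Scheme.{u}} {c : Cone D}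

theorem exists_list_appLE_π_eq (hc : IsLimit c) [∀ {i j} (f : i ⟶ j), IsAffineHom (D.map f)]
    {i : I} {U : (D.obj i).Opens} (hU : IsAffineOpen U) :
    ∀ l : List Γ(c.pt, c.π.app i ⁻¹ᵁ U),
    ∃ (j : I) (f : j ⟶ i) (e : c.π.app i ⁻¹ᵁ U ≤ c.π.app j ⁻¹ᵁ (D.map f ⁻¹ᵁ U))
      (t : List Γ(D.obj j, D.map f ⁻¹ᵁ U)),
        t.map ((c.π.app j).appLE (D.map f ⁻¹ᵁ U) (c.π.app i ⁻¹ᵁ U) e).hom = l
  | [] => ⟨i, 𝟙 i, by simp, [], rfl⟩
  | x :: l => by
    obtain ⟨j, f, e, t, hl⟩ := exists_list_appLE_π_eq hc hU l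
    obtain ⟨k, g, a, e', ha⟩ := MorLib.IdealFG.exists_appLE_π_eq hc hU x
    obtain ⟨l', p, q, -⟩ := IsCofilteredOrEmpty.cone_objs j k
    obtain ⟨m, r, hr⟩ := IsCofilteredOrEmpty.cone_maps (p ≫ f) (q ≫ g)
    have h1 : D.map (r ≫ p ≫ f) ⁻¹ᵁ U ≤ D.map (r ≫ p) ⁻¹ᵁ (D.map f ⁻¹ᵁ U) := by
      rw [← Scheme.Hom.comp_preimage, ← D.map_comp, Category.assoc]
    have h2 : D.map (r ≫ p ≫ f) ⁻¹ᵁ U ≤ D.map (r ≫ q) ⁻¹ᵁ (D.map g ⁻¹ᵁ U) := by
      rw [← Scheme.Hom.comp_preimage, ← D.map_comp, Category.assoc, hr]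
    have e0 : c.π.app i ⁻¹ᵁ U ≤ c.π.app m ⁻¹ᵁ (D.map (r ≫ p ≫ f) ⁻¹ᵁ U) := by
      rw [← Scheme.Hom.comp_preimage, c.w]
    refine ⟨m, r ≫ p ≫ f, e0, ((D.map (r ≫ q)).appLE _ _ h2).hom a ::
      t.map ((D.map (r ≫ p)).appLE _ _ h1).hom, ?_⟩
    rw [List.map_cons, List.map_map]
    refine congrArg₂ _ ((MorLib.IdealFG.appLE_appLE_apply (c.π.app m) (D.map (r ≫ q)) (c.π.app k)
      (c.w (r ≫ q)) h2 e0 e' a).trans ha) (Eq.trans (List.map_congr_left fun b _ => ?_) hl)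
    exact MorLib.IdealFG.appLE_appLE_apply (c.π.app m) (D.map (r ≫ p)) (c.π.app j)
      (c.w (r ≫ p)) h1 e0 e b

variable {i₀ : I} {X₀ : Scheme.{u}} (j₀ : X₀ ⟶ D.obj i₀) [IsImmersion j₀]

set_option maxHeartbeats 1600000 in
/-- A point at which the limit immersion is regular has a regular image at some stage. -/
theorem exists_stage (hc : IsLimit c) [∀ {i j} (f : i ⟶ j), IsAffineHom (D.map f)]
    [∀ {i j} (f : i ⟶ j), Flat (D.map f)]
    (hcase : (∀ i : I, IsLocallyNoetherian (D.obj i)) ∨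
      ((∀ (i j : I) (f : i ⟶ j), Surjective (D.map f)) ∧ LocallyOfFinitePresentation j₀))
    (z : ↥(pullback j₀ (c.π.app i₀)))
    (h : RegImm.IsRegularImmersionAt RegImm.Kind.regular (pullback.snd j₀ (c.π.app i₀)) z) :
    ∃ J : Over i₀, RegImm.IsRegularImmersionAt RegImm.Kind.regular (pullback.snd j₀ (D.map J.hom))
      (MorLib.BC.proj D j₀ (IsPullback.of_hasPullback j₀ (c.π.app i₀)) J z) := by
  classical
  haveI : ∀ j, Flat (c.π.app j) := fun j =>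
    MorLib.LimFlat.flat_π hc j fun k φ => inferInstance
  haveI : ∀ j, IsAffineHom (c.π.app j) := fun j => isAffineHom_π_app D c hc j
  obtain ⟨⟨U', hU'⟩, hsU', hci', rs, hreg, hker'⟩ := h
  let s : c.pt := pullback.snd j₀ (c.π.app i₀) z
  obtain ⟨W₀, hW₀, hzW₀, -, hciW₀⟩ := KRegLib.exists_affine_isClosedImmersion_restrict j₀
    (pullback.fst j₀ (c.π.app i₀) z) ⊤ trivial
  have hI₀ : (RingHom.ker (j₀.app W₀).hom).FG := by
    rcases hcase with hN | ⟨-, hfp⟩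
    · haveI := hN i₀
      haveI : IsNoetherianRing Γ(D.obj i₀, W₀) := IsLocallyNoetherian.component_noetherian ⟨W₀, hW₀⟩
      exact IsNoetherian.noetherian _
    · exact ker_fg_of_lfp j₀ hW₀ hciW₀
  have hsP : s ∈ c.π.app i₀ ⁻¹ᵁ W₀ := by
    show c.π.app i₀ (pullback.snd j₀ (c.π.app i₀) z) ∈ W₀
    rw [← Scheme.Hom.comp_apply, ← pullback.condition, Scheme.Hom.comp_apply]
    exact hzW₀
  obtain ⟨a, hale, hsa⟩ := (hW₀.preimage (c.π.app i₀)).exists_basicOpen_le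
    (⟨s, hsU'⟩ : U') hsP
  obtain ⟨j, f, t₀, e₀, ht₀⟩ := MorLib.IdealFG.exists_appLE_π_eq hc hW₀ a
  let V : (D.obj j).Opens := (D.obj j).basicOpen t₀
  have hV : IsAffineOpen V := (hW₀.preimage (D.map f)).basicOpen t₀
  have hVW : V ≤ D.map f ⁻¹ᵁ W₀ := (D.obj j).basicOpen_le t₀
  have hP' : c.π.app j ⁻¹ᵁ V = c.pt.basicOpen a := by
    rw [← ht₀, Scheme.basicOpen_appLE]
    refine (inf_eq_right.mpr ?_).symm
    intro y hy
    show c.π.app i₀ y ∈ W₀
    rw [← c.w f, Scheme.Hom.comp_apply]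
    exact hVW hy
  have hsP' : s ∈ c.π.app j ⁻¹ᵁ V := by rw [hP']; exact hsa
  have hP'U : c.π.app j ⁻¹ᵁ V ≤ U' := by rw [hP']; exact hale
  -- the kernel on the limit, generated by the restricted sequence
  obtain ⟨-, hkres⟩ := chart_res (pullback.snd j₀ (c.π.app i₀)) hU' hci'
    (hV.preimage (c.π.app j)) hP'U
  let rs' := rs.map (c.pt.presheaf.map (homOfLE hP'U).op).hom
  rw [hker', Ideal.map_ofList] at hkres
  have hreg' : ∀ (y : c.pt) (hy : y ∈ c.π.app j ⁻¹ᵁ V), IsRegAtOn rs' y hy := fun y hy =>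
    (isRegAtOn_res hP'U rs y hy).mpr ((isWeaklyRegular_iff_forall hU' rs).mp hreg.1 y (hP'U hy))
  obtain ⟨m, ψ, e, t, ht⟩ := exists_list_appLE_π_eq hc hV rs'
  let J : Over i₀ := Over.mk (ψ ≫ f)
  let Vm : (D.obj m).Opens := D.map ψ ⁻¹ᵁ V
  have hVm : IsAffineOpen Vm := hV.preimage (D.map ψ)
  have hVmW : Vm ≤ D.map J.hom ⁻¹ᵁ W₀ := by
    intro y hy
    show D.map (ψ ≫ f) y ∈ W₀
    rw [D.map_comp, Scheme.Hom.comp_apply]
    exact hVW hy
  obtain ⟨hciJ, hkJ⟩ := chart_baseChange (IsPullback.of_hasPullback j₀ (D.map J.hom)) hW₀ hciW₀ hVm hVmW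
  let IJ := RingHom.ker ((pullback.snd j₀ (D.map J.hom)).app Vm).hom
  have hIJ : IJ.FG := by
    show (RingHom.ker ((pullback.snd j₀ (D.map J.hom)).app Vm).hom).FG
    rw [hkJ]; exact hI₀.map _
  obtain ⟨-, hklim⟩ := chart_baseChange
    (MorLib.BC.isPullback_proj D j₀ (IsPullback.of_hasPullback j₀ (c.π.app i₀)) J)
    hVm hciJ (hV.preimage (c.π.app j)) e
  -- the image of the point
  let x : D.obj m := c.π.app m s
  have hx : x ∈ Vm := e hsP'
  have heq : IJ.map ((D.obj m).presheaf.germ Vm x hx).hom =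
      (Ideal.ofList t).map ((D.obj m).presheaf.germ Vm x hx).hom := by
    refine eq_of_map_eq_of_faithfullyFlat ((c.π.app m).stalkMap s).hom (flat_local_stalkMap _ s) ?_
    have hcomp : ((c.π.app m).stalkMap s).hom.comp ((D.obj m).presheaf.germ Vm x hx).hom =
        (c.pt.presheaf.germ (c.π.app j ⁻¹ᵁ V) s hsP').hom.comp
          ((c.π.app m).appLE Vm (c.π.app j ⁻¹ᵁ V) e).hom :=
      RingHom.ext fun r => (appLE_germ (c.π.app m) e s hsP' r).symm
    rw [Ideal.map_map, Ideal.map_map, hcomp, ← Ideal.map_map, ← Ideal.map_map]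
    refine congrArg (Ideal.map _) ?_
    rw [Ideal.map_ofList]
    refine Eq.trans ?_ (congrArg Ideal.ofList ht).symm
    exact hklim.symm.trans hkres
  obtain ⟨g₁, hxg₁, hg₁⟩ := exists_map_le_basicOpen hVm x hx hIJ heq.le
  obtain ⟨g₂, hxg₂, hg₂⟩ := exists_map_le_basicOpen hVm x hx
    (Submodule.fg_span (t.finite_toSet.subset fun r hr => hr)) heq.ge
  have hregx : IsRegAtOn t x hx := by
    refine (isRegAtOn_map_iff (c.π.app m) e t s hsP').mp ?_
    rw [ht]; exact hreg' s hsP'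
  obtain ⟨g₃, hxg₃, hg₃⟩ : ∃ g : Γ(D.obj m, Vm), x ∈ (D.obj m).basicOpen g ∧
      ∀ (y : D.obj m) (hy : y ∈ Vm), y ∈ (D.obj m).basicOpen g → IsRegAtOn t y hy := by
    rcases hcase with hN | ⟨hS, -⟩
    · haveI := hN m
      exact exists_nhd_isRegAtOn hVm t x hx hregx
    · refine ⟨1, by rw [Scheme.basicOpen_of_isUnit _ isUnit_one]; exact hx, fun y hy _ => ?_⟩
      haveI : Surjective (c.π.app m) :=
        (MorLib.LimPts.surjective_π_iff hc).mpr fun k φ => hS k m φ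
      obtain ⟨y', rfl⟩ := (c.π.app m).surjective y
      have hy' : y' ∈ c.π.app j ⁻¹ᵁ V := by
        have : D.map ψ (c.π.app m y') ∈ V := hy
        rw [← Scheme.Hom.comp_apply, c.w] at this
        exact this
      refine (isRegAtOn_map_iff (c.π.app m) e t y' hy').mp ?_
      rw [ht]; exact hreg' y' hy'
  let G := g₁ * g₂ * g₃
  have hG : (D.obj m).basicOpen G =
      (D.obj m).basicOpen g₁ ⊓ (D.obj m).basicOpen g₂ ⊓ (D.obj m).basicOpen g₃ := by
    rw [Scheme.basicOpen_mul, Scheme.basicOpen_mul]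
  have hxG : x ∈ (D.obj m).basicOpen G := by rw [hG]; exact ⟨⟨hxg₁, hxg₂⟩, hxg₃⟩
  have hGV : (D.obj m).basicOpen G ≤ Vm := (D.obj m).basicOpen_le G
  obtain ⟨hciG, hkG⟩ := chart_res (pullback.snd j₀ (D.map J.hom)) hVm hciJ (hVm.basicOpen G) hGV
  refine ⟨J, isRegularImmersionAt_of_chart (pullback.snd j₀ (D.map J.hom)) _ (hVm.basicOpen G) ?_ hciG
    (t.map ((D.obj m).presheaf.map (homOfLE hGV).op).hom) ?_ ?_⟩
  · have : pullback.snd j₀ (D.map J.hom)
        (MorLib.BC.proj D j₀ (IsPullback.of_hasPullback j₀ (c.π.app i₀)) J z) = x := by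
      rw [← Scheme.Hom.comp_apply, MorLib.BC.proj_snd, Scheme.Hom.comp_apply]; rfl
    rw [this]; exact hxG
  · exact (isWeaklyRegular_iff_forall (hVm.basicOpen G) _).mpr fun y hy => (isRegAtOn_res hGV t y hy).mpr (hg₃ y (hGV hy) ((hG.le hy).2))
  · rw [hkG, ← Ideal.map_ofList]
    exact le_antisymm (hg₁ _ hGV fun y hy => (hG.le hy).1.1) (hg₂ _ hGV fun y hy => (hG.le hy).1.2)

end Groth.Agent.RegPt
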