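import Groth.Prelude.Def_RegImm
import Groth.Agent.RegPt.Basic
import Groth.Agent.FlatPt5.Alg
import Groth.Agent.LimModLib.FlatStage

/-! Transversally regular sequences along base change and colimits of rings. -/

set_option autoImplicit false
set_option linter.style.haveILetI false
universe u

open TensorProduct RingTheory.Sequence

namespace Groth.Agent.RegPt

section Cond

variable {A : Type u} [CommRing A] (A' : Type u) [CommRing A'] [Algebra A A']
  (Q : Type u) [CommRing Q] [Algebra A Q]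

/-- Multiplication by `f` stays injective after tensoring with `A'`. -/
def MulInj (f : Q) : Prop := Function.Injective ((LinearMap.mulLeft A f).lTensor A')

theorem lTensor_mulLeft (f : Q) (y : A' ⊗[A] Q) :
    (LinearMap.mulLeft A f).lTensor A' y = ((1 : A') ⊗ₜ[A] f) * y := by
  induction y with
  | zero => simp
  | tmul a q => simp [Algebra.TensorProduct.tmul_mul_tmul]
  | add x y hx hy => rw [map_add, hx, hy, mul_add]

theorem mulInj_iff (f : Q) :
    MulInj (A := A) A' Q f ↔ ∀ y : A' ⊗[A] Q, ((1 : A') ⊗ₜ[A] f) * y = 0 → y = 0 := by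
  rw [MulInj, injective_iff_map_eq_zero]
  simp only [lTensor_mulLeft]

variable {B : Type u} [CommRing B] [Algebra A B]

/-- The quotient by the first `k` elements. -/
abbrev Qk (fs : List B) (k : ℕ) : Type u := B ⧸ Ideal.ofList (fs.take k)

/-- Transversal regularity of the base change of `fs` to `A'`, in terms of the quotients over `A`. -/
def TCond (A : Type u) [CommRing A] (A' : Type u) [CommRing A'] [Algebra A A'] {B : Type u} [CommRing B]
    [Algebra A B] (fs : List B) : Prop :=
  (∀ k ≤ fs.length, Module.Flat A' (A' ⊗[A] Qk fs k)) ∧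
    ∀ (k : ℕ) (h : k < fs.length), MulInj (A := A) A' (Qk fs k) (Ideal.Quotient.mk _ fs[k])

/-- The quotient of a base change is the base change of the quotient. -/
theorem exists_quotEquiv (B' : Type u) [CommRing B'] [Algebra A B'] [Algebra A' B'] [Algebra B B']
    [IsScalarTower A A' B'] [IsScalarTower A B B'] [Algebra.IsPushout A A' B B'] (I : Ideal B) :
    ∃ Φ : A' ⊗[A] (B ⧸ I) ≃ₐ[A'] B' ⧸ I.map (algebraMap B B'),
      ∀ b : B, Φ (1 ⊗ₜ[A] Ideal.Quotient.mk I b) = Ideal.Quotient.mk _ (algebraMap B B' b) := by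
  let E : A' ⊗[A] B ≃ₐ[A'] B' := Algebra.IsPushout.equiv A A' B B'
  have hE : ∀ b : B, E (1 ⊗ₜ b) = algebraMap B B' b := fun b => by
    simp [E, Algebra.IsPushout.equiv_tmul]
  have hI : I.map (algebraMap B B') =
      (I.map (Algebra.TensorProduct.includeRight (R := A) (A := A'))).map (E : A' ⊗[A] B →+* B') := by
    rw [← Ideal.map_coe Algebra.TensorProduct.includeRight, Ideal.map_map]
    refine congrArg (fun φ : B →+* B' => I.map φ) (RingHom.ext fun b => ?_)
    exact (hE b).symm
  refine ⟨(Algebra.TensorProduct.tensorQuotientEquiv A' B A' I).trans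
    (Ideal.quotientEquivAlg _ _ E hI), fun b => ?_⟩
  show Ideal.Quotient.mk _ (E (1 ⊗ₜ b)) = _
  rw [hE]

theorem isTransRegularSeq_iff (B' : Type u) [CommRing B'] [Algebra A B'] [Algebra A' B'] [Algebra B B']
    [IsScalarTower A A' B'] [IsScalarTower A B B'] [Algebra.IsPushout A A' B B'] (fs : List B) :
    RegImm.IsTransRegularSeq A' B' (fs.map (algebraMap B B')) ↔ TCond A A' fs := by
  have hflat : (∀ k ≤ (fs.map (algebraMap B B')).length,
      Module.Flat A' (B' ⧸ Ideal.ofList ((fs.map (algebraMap B B')).take k))) ↔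
      ∀ k ≤ fs.length, Module.Flat A' (A' ⊗[A] Qk fs k) := by
    rw [List.length_map]
    refine forall₂_congr fun k _ => ?_
    obtain ⟨Φ, -⟩ := exists_quotEquiv (A := A) A' B' (Ideal.ofList (fs.take k))
    rw [mem_ofList_map]
    exact ⟨fun h => Module.Flat.of_linearEquiv Φ.toLinearEquiv,
      fun h => Module.Flat.of_linearEquiv Φ.toLinearEquiv.symm⟩
  have hreg : IsWeaklyRegular B' (fs.map (algebraMap B B')) ↔
      ∀ (k : ℕ) (h : k < fs.length), MulInj (A := A) A' (Qk fs k) (Ideal.Quotient.mk _ fs[k]) := by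
    rw [isWeaklyRegular_iff_mem]
    constructor
    · intro H k hk
      obtain ⟨Φ, hΦ⟩ := exists_quotEquiv (A := A) A' B' (Ideal.ofList (fs.take k))
      rw [mulInj_iff]
      intro y hy
      obtain ⟨b, hb⟩ := Ideal.Quotient.mk_surjective (Φ y)
      have h1 := congrArg Φ hy
      rw [map_mul, hΦ, map_zero, ← hb, ← map_mul, Ideal.Quotient.eq_zero_iff_mem] at h1
      refine Φ.injective ?_
      rw [map_zero, ← hb, Ideal.Quotient.eq_zero_iff_mem]
      have h2 := H k (by simpa using hk) b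
      rw [mem_ofList_map, List.getElem_map] at h2
      exact h2 h1
    · intro H k hk b hb
      have hk' : k < fs.length := by simpa using hk
      rw [mem_ofList_map, List.getElem_map] at hb
      rw [mem_ofList_map]
      obtain ⟨Φ, hΦ⟩ := exists_quotEquiv (A := A) A' B' (Ideal.ofList (fs.take k))
      have h1 := (mulInj_iff (A := A) A' _ _).mp (H k hk') (Φ.symm (Ideal.Quotient.mk _ b)) (Φ.injective (by
        rw [map_mul, hΦ, map_zero, AlgEquiv.apply_symm_apply, ← map_mul, Ideal.Quotient.eq_zero_iff_mem]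
        exact hb))
      have h2 := congrArg Φ h1
      rwa [map_zero, AlgEquiv.apply_symm_apply, Ideal.Quotient.eq_zero_iff_mem] at h2
  exact (and_congr hreg hflat).trans and_comm

end Cond

section Ker

/-- With a flat cokernel, the kernel of a base change comes from the kernel. -/
theorem mem_range_lTensor_ker {R : Type u} [CommRing R] {M N : Type u} [AddCommGroup M] [Module R M]
    [AddCommGroup N] [Module R N] (u : M →ₗ[R] N) [Module.Flat R (N ⧸ LinearMap.range u)]
    (R' : Type u) [AddCommGroup R'] [Module R R'] (w : R' ⊗[R] M) (hw : u.lTensor R' w = 0) :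
    ∃ v : R' ⊗[R] LinearMap.ker u, (LinearMap.ker u).subtype.lTensor R' v = w := by
  let I := LinearMap.range u
  have hι : Function.Injective (I.subtype.lTensor R') := LinearMap.lTensor_injective_of_exact_of_flat
    I.mkQ (Submodule.mkQ_surjective I) I.subtype Subtype.val_injective
    (LinearMap.exact_subtype_mkQ I) R'
  have h1 : u.rangeRestrict.lTensor R' w = 0 := by
    refine hι ?_
    rw [map_zero, ← LinearMap.lTensor_comp_apply]
    exact hw
  have hex : Function.Exact (LinearMap.ker u).subtype u.rangeRestrict := fun m => by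
    constructor
    · intro hm
      exact ⟨⟨m, congrArg Subtype.val hm⟩, rfl⟩
    · rintro ⟨k, rfl⟩
      exact Subtype.ext k.2
  exact ((lTensor_exact R' hex u.surjective_rangeRestrict) w).1 h1

variable {A : Type u} [CommRing A] (R : Type u) [CommRing R] [Algebra A R] (Q : Type u) [CommRing Q] [Algebra A Q]

theorem range_mulLeft_eq (f : Q) :
    LinearMap.range (LinearMap.mulLeft R ((1 : R) ⊗ₜ[A] f)) =
      LinearMap.ker ((Ideal.Quotient.mkₐ A (Ideal.span {f})).toLinearMap.baseChange R) := by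
  have hex : Function.Exact (LinearMap.mulLeft A f) (Ideal.Quotient.mkₐ A (Ideal.span {f})).toLinearMap := by
    intro q
    show Ideal.Quotient.mk _ q = 0 ↔ _
    rw [Ideal.Quotient.eq_zero_iff_mem, Ideal.mem_span_singleton']
    exact ⟨fun ⟨a, ha⟩ => ⟨a, by rw [← ha, LinearMap.mulLeft_apply, mul_comm]⟩,
      fun ⟨a, ha⟩ => ⟨a, by rw [← ha, LinearMap.mulLeft_apply, mul_comm]⟩⟩
  ext y
  rw [LinearMap.mem_ker]
  show y ∈ LinearMap.range _ ↔ (Ideal.Quotient.mkₐ A (Ideal.span {f})).toLinearMap.lTensor R y = 0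
  rw [(lTensor_exact R hex (Ideal.Quotient.mkₐ_surjective A _)) y]
  constructor
  · rintro ⟨z, rfl⟩
    exact ⟨z, lTensor_mulLeft R Q f z⟩
  · rintro ⟨z, rfl⟩
    exact ⟨z, (lTensor_mulLeft R Q f z).symm⟩

theorem flat_coker_mulLeft (f : Q) (h : Module.Flat R (R ⊗[A] (Q ⧸ Ideal.span {f}))) :
    Module.Flat R ((R ⊗[A] Q) ⧸ LinearMap.range (LinearMap.mulLeft R ((1 : R) ⊗ₜ[A] f))) := by
  let π := (Ideal.Quotient.mkₐ A (Ideal.span {f})).toLinearMap.baseChange R
  have hπ : Function.Surjective π := LinearMap.lTensor_surjective R (Ideal.Quotient.mkₐ_surjective A _)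
  exact Module.Flat.of_linearEquiv
    ((Submodule.quotEquivOfEq _ _ (range_mulLeft_eq R Q f)).trans (π.quotKerEquivOfSurjective hπ))

theorem mulInj_of_flat_of_tower (R' : Type u) [CommRing R'] [Algebra A R'] [Algebra R R']
    [IsScalarTower A R R'] (f : Q)
    (hflat : Module.Flat R (R ⊗[A] (Q ⧸ Ideal.span {f})))
    (hker : ∀ y : R ⊗[A] Q, ((1 : R) ⊗ₜ[A] f) * y = 0 →
      (IsScalarTower.toAlgHom A R R').toLinearMap.rTensor Q y = 0) :
    MulInj (A := A) R' Q f := by
  let u := LinearMap.mulLeft R ((1 : R) ⊗ₜ[A] f)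
  let T := Algebra.TensorProduct.map (IsScalarTower.toAlgHom A R R') (AlgHom.id A Q)
  haveI := flat_coker_mulLeft R Q f hflat
  let e := TensorProduct.AlgebraTensorModule.cancelBaseChange A R R' R' Q
  have heT : ∀ (a : R') (k : R ⊗[A] Q), e (a ⊗ₜ[R] k) = a • T k := by
    intro a k
    induction k with
    | zero => simp
    | tmul b q =>
      rw [TensorProduct.AlgebraTensorModule.cancelBaseChange_tmul, Algebra.TensorProduct.map_tmul,
        TensorProduct.smul_tmul', Algebra.smul_def, smul_eq_mul, mul_comm]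
      rfl
    | add x y hx hy => rw [TensorProduct.tmul_add, map_add, map_add, hx, hy, smul_add]
  have hTf : T ((1 : R) ⊗ₜ[A] f) = (1 : R') ⊗ₜ[A] f := by
    rw [Algebra.TensorProduct.map_tmul, map_one]; rfl
  have hcomm : ∀ w, e (u.lTensor R' w) = ((1 : R') ⊗ₜ[A] f) * e w := by
    intro w
    induction w with
    | zero => simp
    | tmul a k =>
      rw [LinearMap.lTensor_tmul, heT, heT, LinearMap.mulLeft_apply, map_mul, hTf, mul_smul_comm]
    | add x y hx hy => simp only [map_add, hx, hy, mul_add]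
  rw [mulInj_iff]
  intro y hy
  obtain ⟨w, rfl⟩ := e.surjective y
  obtain ⟨v, rfl⟩ := mem_range_lTensor_ker u R' w (e.injective (by rw [hcomm, hy, map_zero]))
  clear hy hcomm
  induction v with
  | zero => simp
  | tmul a k =>
    have hk : T k.1 = 0 := hker k.1 k.2
    rw [LinearMap.lTensor_tmul, heT, Submodule.subtype_apply, hk, smul_zero]
  | add x y hx hy => rw [map_add, map_add, hx, hy, add_zero]

end Ker

section Colim

open CategoryTheory LimModLib

variable {A : Type u} [CommRing A] {J : Type u} [SmallCategory J] {B : J → Type u}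
  [∀ j, CommRing (B j)] [∀ j, Algebra A (B j)] {Binf : Type u} [CommRing Binf] [Algebra A Binf]
  (C : AlgColim A J B Binf) {Q : Type u} [CommRing Q] [Algebra A Q]

theorem T_mul {j l : J} (g : l ⟶ j) (x y : B j ⊗[A] Q) :
    C.T Q g (x * y) = C.T Q g x * C.T Q g y :=
  map_mul (Algebra.TensorProduct.map (C.t g) (AlgHom.id A Q)) x y

theorem P_mul (j : J) (x y : B j ⊗[A] Q) : C.P Q j (x * y) = C.P Q j x * C.P Q j y :=
  map_mul (Algebra.TensorProduct.map (C.p j) (AlgHom.id A Q)) x y

theorem mulInj_of_flat {j l : J} (g : l ⟶ j) (f : Q)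
    (hflat : Module.Flat (B j) (B j ⊗[A] (Q ⧸ Ideal.span {f})))
    (hker : ∀ y : B j ⊗[A] Q, ((1 : B j) ⊗ₜ[A] f) * y = 0 → C.T Q g y = 0) :
    MulInj (A := A) (B l) Q f := by
  letI : Algebra (B j) (B l) := (C.t g).toRingHom.toAlgebra
  haveI : IsScalarTower A (B j) (B l) := IsScalarTower.of_algHom (C.t g)
  exact mulInj_of_flat_of_tower (B j) Q (B l) f hflat fun y hy => hker y hy

include C in
theorem mulInj_later {j l : J} (g : l ⟶ j) (f : Q)
    (hflat : Module.Flat (B j) (B j ⊗[A] (Q ⧸ Ideal.span {f}))) (h : MulInj (A := A) (B j) Q f) :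
    MulInj (A := A) (B l) Q f :=
  mulInj_of_flat C g f hflat fun y hy => by rw [(mulInj_iff (A := A) (B j) Q f).mp h y hy, map_zero]

include C in
theorem exists_mulInj [IsCofiltered J] [Algebra.FinitePresentation A Q] {j : J} (f : Q)
    (hflat : Module.Flat (B j) (B j ⊗[A] (Q ⧸ Ideal.span {f}))) (h : MulInj (A := A) Binf Q f) :
    ∃ (l : J) (g : l ⟶ j), MulInj (A := A) (B l) Q f := by
  let u : B j ⊗[A] Q →ₗ[B j ⊗[A] Q] B j ⊗[A] Q := LinearMap.mulLeft _ ((1 : B j) ⊗ₜ[A] f)
  have hf := flat_coker_mulLeft (B j) Q f hflat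
  haveI := hf
  let e0 : ((B j ⊗[A] Q) ⧸ LinearMap.range u) ≃ₗ[B j]
      (B j ⊗[A] Q) ⧸ LinearMap.range (LinearMap.mulLeft (B j) ((1 : B j) ⊗ₜ[A] f)) :=
    (Submodule.Quotient.restrictScalarsEquiv (B j) (LinearMap.range u)).symm.trans
      (Submodule.quotEquivOfEq _ _ (SetLike.ext fun _ => Iff.rfl))
  haveI : Module.Flat (B j) ((B j ⊗[A] Q) ⧸ LinearMap.range u) := Module.Flat.of_linearEquiv e0
  obtain ⟨G, hG⟩ := FlatPt5.fg_ker_of_flat (A := B j) (B := B j ⊗[A] Q) u
  obtain ⟨l, g, hl⟩ := C.exists_forall_T_eq_zero G id fun y hy => by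
    have hy0 : u y = 0 := LinearMap.mem_ker.mp (hG ▸ Submodule.subset_span hy)
    refine (mulInj_iff (A := A) Binf Q f).mp h _ ?_
    have := congrArg (C.P Q j) (show ((1 : B j) ⊗ₜ[A] f) * y = 0 from hy0)
    rw [map_zero, P_mul, AlgColim.P_tmul, map_one] at this
    exact this
  refine ⟨l, g, mulInj_of_flat C g f hflat fun y hy => ?_⟩
  have hy' : y ∈ Submodule.span (B j ⊗[A] Q) (G : Set (B j ⊗[A] Q)) := by
    rw [hG]; exact hy
  clear hy
  induction hy' using Submodule.span_induction with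
  | mem y hy => exact hl y hy
  | zero => rw [map_zero]
  | add x y _ _ hx hy => rw [map_add, hx, hy, add_zero]
  | smul r x _ hx => rw [smul_eq_mul, T_mul, hx, mul_zero]

variable {B₀ : Type u} [CommRing B₀] [Algebra A B₀]

theorem flat_quot_step (R : Type u) [CommRing R] [Algebra A R] {fs : List B₀} {k : ℕ} (hk : k < fs.length)
    (h : Module.Flat R (R ⊗[A] Qk fs (k + 1))) :
    Module.Flat R (R ⊗[A] (Qk fs k ⧸ Ideal.span {Ideal.Quotient.mk (Ideal.ofList (fs.take k)) fs[k]})) := by
  have e1 : (Ideal.span {Ideal.Quotient.mk (Ideal.ofList (fs.take k)) fs[k]} : Ideal (Qk fs k)) =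
      (Ideal.span {fs[k]}).map (Ideal.Quotient.mkₐ A (Ideal.ofList (fs.take k))) := by
    rw [← Ideal.map_coe, Ideal.map_span, Set.image_singleton]; rfl
  have e2 : Ideal.ofList (fs.take k) ⊔ Ideal.span {fs[k]} = Ideal.ofList (fs.take (k + 1)) := by
    rw [List.take_succ_eq_append_getElem hk, Ideal.ofList_append, Ideal.ofList_singleton]
  let e : (Qk fs k ⧸ Ideal.span {Ideal.Quotient.mk (Ideal.ofList (fs.take k)) fs[k]}) ≃ₐ[A] Qk fs (k + 1) :=
    ((Ideal.quotientEquivAlgOfEq A e1).trans
      (DoubleQuot.quotQuotEquivQuotSupₐ A (Ideal.ofList (fs.take k)) (Ideal.span {fs[k]}))).trans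
      (Ideal.quotientEquivAlgOfEq A e2)
  exact Module.Flat.of_linearEquiv (e.toLinearEquiv.baseChange A R _ _)

/-- Transversal regularity is stable under base change. -/
theorem tcond_baseChange (R R' : Type u) [CommRing R] [Algebra A R] [CommRing R'] [Algebra A R'] [Algebra R R']
    [IsScalarTower A R R'] {fs : List B₀} (h : TCond A R fs) : TCond A R' fs := by
  refine ⟨fun k hk => ?_, fun k hk => ?_⟩
  · haveI := h.1 k hk
    exact Module.Flat.of_linearEquiv
      (TensorProduct.AlgebraTensorModule.cancelBaseChange A R R' R' (Qk fs k)).symm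
  · refine mulInj_of_flat_of_tower R (Qk fs k) R' _ (flat_quot_step R hk (h.1 (k + 1) hk)) fun y hy => ?_
    rw [(mulInj_iff (A := A) R _ _).mp (h.2 k hk) y hy, map_zero]

include C in
theorem tcond_later [IsCofiltered J] {fs : List B₀} {j l : J} (g : l ⟶ j) (h : TCond A (B j) fs) : TCond A (B l) fs :=
  ⟨fun k hk => C.flat_later g (h.1 k hk), fun k hk =>
    mulInj_later C g _ (flat_quot_step (B j) hk (h.1 (k + 1) hk)) (h.2 k hk)⟩

include C in
/-- The colimit as one more stage. -/
theorem tcond_lim {fs : List B₀} {j : J} (h : TCond A (B j) fs) : TCond A Binf fs := by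
  letI : Algebra (B j) Binf := (C.p j).toRingHom.toAlgebra
  haveI : IsScalarTower A (B j) Binf := IsScalarTower.of_algHom (C.p j)
  exact tcond_baseChange (B j) Binf h

include C in
theorem exists_tcond [IsCofiltered J] (hid : ∀ (j : J) (x : B j), C.t (𝟙 j) x = x)
    [Algebra.FinitePresentation A B₀] {fs : List B₀} (h : TCond A Binf fs) :
    ∃ j : J, TCond A (B j) fs := by
  classical
  haveI hfp : ∀ k : ℕ, Algebra.FinitePresentation A (Qk fs k) := fun k =>
    Algebra.FinitePresentation.quotient (Submodule.fg_span (fs.take k).finite_toSet)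
  have h1 : ∀ k : Fin (fs.length + 1), ∃ j : J, Module.Flat (B j) (B j ⊗[A] Qk fs k) := fun k =>
    C.exists_flat hid (B₀ := Qk fs k) (Qk fs k) (h.1 k (Nat.lt_succ_iff.mp k.2))
  choose jf hjf using h1
  obtain ⟨j₁, hj₁⟩ := IsCofiltered.inf_objs_exists (Finset.univ.image jf)
  have hflat : ∀ (l : J), (l ⟶ j₁) → ∀ k ≤ fs.length, Module.Flat (B l) (B l ⊗[A] Qk fs k) :=
    fun l g k hk => C.flat_later (g ≫ (hj₁ (Finset.mem_image_of_mem jf
      (Finset.mem_univ ⟨k, Nat.lt_succ_of_le hk⟩))).some) (hjf ⟨k, _⟩)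
  have h2 : ∀ k : Fin fs.length, ∃ (l : J) (_ : l ⟶ j₁),
      MulInj (A := A) (B l) (Qk fs k) (Ideal.Quotient.mk _ fs[k.1]) := fun k =>
    exists_mulInj C (Ideal.Quotient.mk _ fs[k.1])
      (flat_quot_step (B j₁) k.2 (hflat j₁ (𝟙 _) (k + 1) k.2)) (h.2 k k.2)
  choose lk gk hlk using h2
  obtain ⟨m, hm⟩ := IsCofiltered.inf_objs_exists (insert j₁ (Finset.univ.image lk))
  refine ⟨m, hflat m (hm (Finset.mem_insert_self _ _)).some, fun k hk => ?_⟩
  exact mulInj_later C
    (hm (Finset.mem_insert_of_mem (Finset.mem_image_of_mem lk (Finset.mem_univ ⟨k, hk⟩)))).some _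
    (flat_quot_step (B _) hk (hflat _ (gk ⟨k, hk⟩) (k + 1) hk)) (hlk ⟨k, hk⟩)

end Colim

end Groth.Agent.RegPt
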