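import Groth.Agent.RegPt.TransScheme
import Groth.Agent.RegPt.Descend

/-! Transversally regular immersions descend along limits. -/

set_option autoImplicit false
set_option linter.style.haveILetI false
universe u

namespace Groth.Agent.RegPt

open AlgebraicGeometry CategoryTheory Limits TensorProduct LimModLib

/-- Containment of extended ideals descends to a stage. -/
theorem exists_map_le_stage {A : Type u} [CommRing A] {J : Type u} [SmallCategory J] [IsCofiltered J]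
    {B : J → Type u} [∀ j, CommRing (B j)] [∀ j, Algebra A (B j)] {Binf : Type u} [CommRing Binf]
    [Algebra A Binf] (C : AlgColim A J B Binf) (j : J) {L R : Ideal A} (hL : L.FG)
    (h : L.map (algebraMap A Binf) ≤ R.map (algebraMap A Binf)) :
    ∃ (k : J) (_ : k ⟶ j), L.map (algebraMap A (B k)) ≤ R.map (algebraMap A (B k)) := by
  classical
  have key : ∀ (S : Type u) [CommRing S] [Algebra A S] (a : A),
      ((1 : S) ⊗ₜ[A] Ideal.Quotient.mk R a) = 0 ↔ algebraMap A S a ∈ R.map (algebraMap A S) := by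
    intro S _ _ a
    rw [← (Algebra.TensorProduct.quotIdealMapEquivTensorQuot S R).symm.injective.eq_iff, map_zero,
      Algebra.TensorProduct.quotIdealMapEquivTensorQuot_symm_tmul,
      Submodule.Quotient.mk_eq_zero, Algebra.smul_def, mul_one]
  obtain ⟨G, rfl⟩ := hL
  obtain ⟨k, g, hk⟩ := C.exists_forall_T_eq_zero (j := j) G
    (fun a => (1 : B j) ⊗ₜ[A] Ideal.Quotient.mk R a) fun a ha => by
      rw [AlgColim.P_tmul, map_one]
      exact (key Binf a).mpr (h (Ideal.mem_map_of_mem _ (Submodule.subset_span ha)))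
  refine ⟨k, g, ?_⟩
  rw [Ideal.map_le_iff_le_comap, Ideal.span_le]
  intro a ha
  have := hk a ha
  rw [AlgColim.T_tmul, map_one] at this
  exact (key (B k) a).mp this

theorem isTransRegularSeq_of_surjective_injective {A B B' : Type u} [CommRing A] [CommRing B] [CommRing B']
    [Algebra A B] [Algebra A B'] (e : B ≃ₐ[A] B') (rs : List B) (h : RegImm.IsTransRegularSeq A B rs) :
    RegImm.IsTransRegularSeq A B' (rs.map e) := by
  refine ⟨map_of_flat (e : B →+* B') (RingHom.Flat.of_bijective e.bijective) rs h.1, fun j hj => ?_⟩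
  rw [List.length_map] at hj
  haveI := h.2 j hj
  exact Module.Flat.of_linearEquiv (Ideal.quotientEquivAlg (Ideal.ofList (rs.take j))
    (Ideal.ofList ((rs.map e).take j)) e (mem_ofList_map (e : B →+* B') rs j)).symm.toLinearEquiv

variable {X T : Scheme.{u}}

/-- Restricting a transversally regular sequence to a smaller affine pair. -/
theorem isTransRegularSeq_res (g : X ⟶ T) (U : X.affineOpens) (V : T.affineOpens) (e : U.1 ≤ g ⁻¹ᵁ V.1)
    (rs : List Γ(X, U.1))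
    (h : @RegImm.IsTransRegularSeq Γ(T, V.1) Γ(X, U.1) _ _ (g.appLE V.1 U.1 e).hom.toAlgebra rs)
    (W : X.affineOpens) (O : T.affineOpens) (e' : W.1 ≤ g ⁻¹ᵁ O.1) (hW : W.1 ≤ U.1) :
    @RegImm.IsTransRegularSeq Γ(T, O.1) Γ(X, W.1) _ _ (g.appLE O.1 W.1 e').hom.toAlgebra
      (rs.map (X.presheaf.map (homOfLE hW).op).hom) := by
  haveI : IsAffine (U.1 : Scheme.{u}) := U.2
  let ι := U.1.ι
  let gs : List Γ((U.1 : Scheme.{u}), ⊤) := rs.map U.1.topIso.inv.hom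
  have htop : IsTRPair (ι ≫ g) gs ⊤ V.1 (fun x _ => e x.2) := by
    letI := (g.appLE V.1 U.1 e).hom.toAlgebra
    letI := ((ι ≫ g).appLE V.1 ⊤ (fun x _ => e x.2)).hom.toAlgebra
    let ee : Γ(X, U.1) ≃ₐ[Γ(T, V.1)] Γ((U.1 : Scheme.{u}), ⊤) :=
      AlgEquiv.ofRingEquiv (f := U.1.topIso.symm.commRingCatIsoToRingEquiv) (fun a => by
        show U.1.topIso.inv.hom ((g.appLE V.1 U.1 e).hom a) = ((ι ≫ g).appLE V.1 ⊤ _).hom a
        rw [← RingHom.comp_apply, ← CommRingCat.hom_comp]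
        refine congrArg (fun φ : Γ(T, V.1) ⟶ Γ((U.1 : Scheme.{u}), ⊤) => φ.hom a) ?_
        have h0 := Scheme.Hom.appLE_comp_appLE ι g V.1 U.1 ⊤ e (fun x _ => x.2)
        refine Eq.trans ?_ h0
        congr 1
        rw [Scheme.Opens.topIso_inv, Scheme.Hom.appLE, Scheme.Opens.ι_app, Scheme.Opens.toScheme_presheaf_map]
        exact (congrArg X.presheaf.map (Subsingleton.elim _ _)).trans (X.presheaf.map_comp _ _))
    have := isTransRegularSeq_of_surjective_injective ee rs h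
    unfold IsTRPair resList
    rw [show (List.map (fun g => ((U.1 : Scheme.{u}).presheaf.map (homOfLE (le_top : (⊤ : (U.1 : Scheme.{u}).Opens) ≤ ⊤)).op).hom g) gs) =
      rs.map ee from by
        simp only [gs, List.map_map]
        refine List.map_congr_left fun a _ => ?_
        show ((U.1 : Scheme.{u}).presheaf.map (homOfLE le_rfl).op).hom (U.1.topIso.inv.hom a) = _
        rw [show (homOfLE (le_refl (⊤ : (U.1 : Scheme.{u}).Opens))).op = 𝟙 _ from rfl,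
          (U.1 : Scheme.{u}).presheaf.map_id]
        rfl]
    exact this
  have hall := isTRPair_of_cover (ι ≫ g) gs
    (fun x => ⟨⟨⊤, isAffineOpen_top _⟩, V, fun x _ => e x.2, trivial, htop⟩)
    ⟨ι ⁻¹ᵁ W.1, W.2.preimage_of_isOpenImmersion ι (by rw [Scheme.Opens.opensRange_ι]; exact hW)⟩ O
    (fun x hx => e' hx)
  letI := (g.appLE O.1 W.1 e').hom.toAlgebra
  letI := ((ι ≫ g).appLE O.1 (ι ⁻¹ᵁ W.1) (fun x hx => e' hx)).hom.toAlgebra
  haveI : IsIso (ι.app W.1) := ι.isIso_app W.1 (by rw [Scheme.Opens.opensRange_ι]; exact hW)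
  let ew : Γ(X, W.1) ≃ₐ[Γ(T, O.1)] Γ((U.1 : Scheme.{u}), ι ⁻¹ᵁ W.1) :=
    AlgEquiv.ofRingEquiv (f := (asIso (ι.app W.1)).commRingCatIsoToRingEquiv) (fun a => by
      show (ι.app W.1).hom ((g.appLE O.1 W.1 e').hom a) = ((ι ≫ g).appLE O.1 (ι ⁻¹ᵁ W.1) _).hom a
      rw [← RingHom.comp_apply, ← CommRingCat.hom_comp, Scheme.Hom.app_eq_appLE,
        Scheme.Hom.appLE_comp_appLE])
  have h2 := isTransRegularSeq_of_surjective_injective ew.symm _ hall
  convert h2 using 1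
  simp only [resList, gs, List.map_map]
  refine List.map_congr_left fun a _ => ?_
  refine (ew.symm_apply_eq.mpr ?_).symm
  show ((U.1 : Scheme.{u}).presheaf.map _).hom (U.1.topIso.inv.hom a) =
    (ι.app W.1).hom ((X.presheaf.map (homOfLE hW).op).hom a)
  rw [← RingHom.comp_apply, ← RingHom.comp_apply, ← CommRingCat.hom_comp, ← CommRingCat.hom_comp]
  refine congrArg (fun φ : Γ(X, U.1) ⟶ Γ((U.1 : Scheme.{u}), ι ⁻¹ᵁ W.1) => φ.hom a) ?_
  rw [Scheme.Opens.topIso_inv, Scheme.Opens.ι_app, Scheme.Opens.toScheme_presheaf_map]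
  exact (X.presheaf.map_comp _ _).symm.trans
    ((congrArg X.presheaf.map (Subsingleton.elim _ _)).trans (X.presheaf.map_comp _ _))

/-- The chart of a transversally regular base change of `j₀`, at a point of the ambient scheme. -/
def Good {X₀ Y₀ : Scheme.{u}} (j₀ : Y₀ ⟶ X₀) (q : X ⟶ T) (p : X ⟶ X₀) (x : X) : Prop :=
  ∃ (W₀ : X₀.affineOpens) (U : X.affineOpens) (V : T.affineOpens) (e : U.1 ≤ q ⁻¹ᵁ V.1)
    (e₀ : U.1 ≤ p ⁻¹ᵁ W₀.1), x ∈ U.1 ∧ IsClosedImmersion (j₀ ∣_ W₀.1) ∧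
      ∃ rs : List Γ(X, U.1),
        @RegImm.IsTransRegularSeq Γ(T, V.1) Γ(X, U.1) _ _ (q.appLE V.1 U.1 e).hom.toAlgebra rs ∧
        (RingHom.ker (j₀.app W₀.1).hom).map (p.appLE W₀.1 U.1 e₀).hom = Ideal.ofList rs

variable {X₀ Y₀ : Scheme.{u}} (j₀ : Y₀ ⟶ X₀)

theorem isOpen_good (q : X ⟶ T) (p : X ⟶ X₀) : IsOpen {x | Good j₀ q p x} := by
  rw [isOpen_iff_forall_mem_open]
  rintro x ⟨W₀, U, V, e, e₀, hx, h⟩
  exact ⟨(U.1 : Set X), fun y hy => ⟨W₀, U, V, e, e₀, hy, h⟩, U.1.2, hx⟩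

theorem isTransRegularImmersionAt_of_good {Y : Scheme.{u}} {a : Y ⟶ Y₀} {i : Y ⟶ X} (q : X ⟶ T)
    (p : X ⟶ X₀) (hsq : IsPullback a i j₀ p) (z : Y) (h : Good j₀ q p (i z)) :
    RegImm.IsTransRegularImmersionAt q i z := by
  obtain ⟨W₀, U, V, e, e₀, hz, hci, rs, hrs, hker⟩ := h
  obtain ⟨hci', hk⟩ := chart_baseChange hsq W₀.2 hci U.2 e₀
  exact ⟨U, V, e, hz, hci', rs, hrs, hk.trans hker⟩

theorem good_baseChange {X' T' : Scheme.{u}} {r : X' ⟶ X} {q' : X' ⟶ T'} {q : X ⟶ T} {b : T' ⟶ T}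
    (hsq : IsPullback r q' q b) {p : X ⟶ X₀} {p' : X' ⟶ X₀} (hp : r ≫ p = p') (x' : X')
    (h : Good j₀ q p (r x')) : Good j₀ q' p' x' := by
  obtain ⟨W₀, U, V, e, e₀, hx, hci, rs, hrs, hker⟩ := h
  have hxV : b (q' x') ∈ V.1 := by
    rw [← Scheme.Hom.comp_apply, ← hsq.w, Scheme.Hom.comp_apply]
    exact e hx
  obtain ⟨O, hO, hxO, hOV⟩ := exists_isAffineOpen_mem_and_subset (x := q' x') (U := b ⁻¹ᵁ V.1) hxV
  let W : X'.Opens := r ⁻¹ᵁ U.1 ⊓ q' ⁻¹ᵁ O
  have hW : IsAffineOpen W := by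
    haveI : IsAffine _ := V.2
    haveI : IsAffine _ := hO
    haveI : IsAffine _ := U.2
    exact .of_isIso (Scheme.Hom.isPullback_resLE hsq hOV e (UY := W) rfl).isoPullback.hom
  have hpo := (isIso_pushoutSection_iff hsq hOV e (UY := W) rfl).mp
    (isIso_pushoutSection_of_isAffineOpen hsq hOV e rfl V.2 hO U.2)
  have hW₀ : W ≤ p' ⁻¹ᵁ W₀.1 := by
    rintro y ⟨hy, -⟩
    show p' y ∈ W₀.1
    rw [← hp, Scheme.Hom.comp_apply]
    exact e₀ hy
  refine ⟨W₀, ⟨W, hW⟩, ⟨O, hO⟩, inf_le_right, hW₀, ⟨hx, hxO⟩, hci,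
    rs.map (r.appLE U.1 W inf_le_left).hom, ?_, ?_⟩
  · letI : Algebra Γ(T, V.1) Γ(X, U.1) := (q.appLE V.1 U.1 e).hom.toAlgebra
    letI : Algebra Γ(T, V.1) Γ(T', O) := (b.appLE V.1 O hOV).hom.toAlgebra
    letI : Algebra Γ(X, U.1) Γ(X', W) := (r.appLE U.1 W inf_le_left).hom.toAlgebra
    letI : Algebra Γ(T', O) Γ(X', W) := (q'.appLE O W inf_le_right).hom.toAlgebra
    letI : Algebra Γ(T, V.1) Γ(X', W) := (q.appLE V.1 U.1 e ≫ r.appLE U.1 W inf_le_left).hom.toAlgebra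
    haveI : IsScalarTower Γ(T, V.1) Γ(X, U.1) Γ(X', W) := .of_algebraMap_eq fun _ => rfl
    haveI : IsScalarTower Γ(T, V.1) Γ(T', O) Γ(X', W) := .of_algebraMap_eq fun a => congr($(hpo.w).hom a)
    haveI : Algebra.IsPushout Γ(T, V.1) Γ(T', O) Γ(X, U.1) Γ(X', W) :=
      CommRingCat.isPushout_iff_isPushout.mp hpo.flip
    refine (isTransRegularSeq_iff (A := Γ(T, V.1)) Γ(T', O) Γ(X', W) rs).mpr ?_
    haveI : Algebra.IsPushout Γ(T, V.1) Γ(T, V.1) Γ(X, U.1) Γ(X, U.1) :=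
      ⟨IsBaseChange.of_equiv (TensorProduct.lid _ _) (fun _ => by simp)⟩
    refine tcond_baseChange Γ(T, V.1) Γ(T', O)
      ((isTransRegularSeq_iff (A := Γ(T, V.1)) Γ(T, V.1) Γ(X, U.1) rs).mp ?_)
    simpa using hrs
  · rw [← MorLib.IdealFG.map_appLE_map r p p' hp e₀ (inf_le_left : W ≤ r ⁻¹ᵁ U.1) hW₀, hker,
      Ideal.map_ofList]

end Groth.Agent.RegPt
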