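import Groth.Agent.RegPt.TransAlg
import Groth.Agent.RegPt.Immersion
import Groth.Agent.LimModLib.Limit
import Groth.Agent.MorLib.BaseChangeLim

/-! Transversally regular sequences of global sections on schemes. -/

set_option autoImplicit false
set_option linter.style.haveILetI false
universe u

namespace Groth.Agent.RegPt

open AlgebraicGeometry CategoryTheory Limits RingTheory.Sequence

variable {X T : Scheme.{u}}

/-- The restriction of global sections to an open. -/
noncomputable abbrev resList (U : X.Opens) (gs : List Γ(X, ⊤)) : List Γ(X, U) :=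
  gs.map (fun g => (X.presheaf.map (homOfLE (le_top : U ≤ ⊤)).op).hom g)

/-- Transversal regularity of global sections, on a pair of opens. -/
def IsTRPair (g : X ⟶ T) (gs : List Γ(X, ⊤)) (U : X.Opens) (V : T.Opens) (e : U ≤ g ⁻¹ᵁ V) : Prop :=
  @RegImm.IsTransRegularSeq Γ(T, V) Γ(X, U) _ _ (g.appLE V U e).hom.toAlgebra (resList U gs)

/-- The ideal sheaf generated by a global ideal. -/
noncomputable def globalIdeal (J : Ideal Γ(X, ⊤)) : X.IdealSheafData where
  ideal U := J.map (X.presheaf.map (homOfLE (le_top : U.1 ≤ ⊤)).op).hom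
  map_ideal_basicOpen U f := by
    rw [Ideal.map_map, ← CommRingCat.hom_comp, ← X.presheaf.map_comp]
    rfl

/-- The closed subscheme cut out by the first `k` sections. -/
noncomputable abbrev cutι (gs : List Γ(X, ⊤)) (k : ℕ) :=
  (globalIdeal (Ideal.ofList (gs.take k))).subschemeι

theorem ker_cutι_app (gs : List Γ(X, ⊤)) (k : ℕ) (U : X.affineOpens) :
    RingHom.ker ((cutι gs k).app U.1).hom = Ideal.ofList ((resList U.1 gs).take k) := by
  rw [Scheme.IdealSheafData.ker_subschemeι_app, resList, mem_ofList_map]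
  rfl

theorem flat_quot_iff {A B C : Type u} [CommRing A] [CommRing B] [CommRing C] (φ : A →+* B) (π : B →+* C)
    (hπ : Function.Surjective π) (K : Ideal B) (hK : RingHom.ker π = K) :
    (π.comp φ).Flat ↔ @Module.Flat A (B ⧸ K) _ _ (letI := φ.toAlgebra; inferInstance) := by
  subst hK
  letI := φ.toAlgebra
  letI := (π.comp φ).toAlgebra
  let e : (B ⧸ RingHom.ker π) ≃ₗ[A] C :=
    (AlgEquiv.ofRingEquiv (R := A) (f := RingHom.quotientKerEquivOfSurjective hπ) (fun _ => rfl)).toLinearEquiv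
  constructor
  · intro h
    haveI : Module.Flat A C := h
    exact Module.Flat.of_linearEquiv e
  · intro h
    show Module.Flat A C
    exact Module.Flat.of_linearEquiv e.symm

theorem isTRPair_iff (g : X ⟶ T) (gs : List Γ(X, ⊤)) (U : X.affineOpens) (V : T.affineOpens)
    (e : U.1 ≤ g ⁻¹ᵁ V.1) :
    IsTRPair g gs U.1 V.1 e ↔ (∀ x ∈ U.1, IsRegAt X gs x) ∧
      ∀ k ≤ gs.length, ((cutι gs k ≫ g).appLE V.1 (cutι gs k ⁻¹ᵁ U.1)
        ((cutι gs k).preimage_mono e)).hom.Flat := by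
  letI := (g.appLE V.1 U.1 e).hom.toAlgebra
  refine and_congr (isWeaklyRegular_affine_iff gs U) ?_
  rw [List.length_map]
  refine forall₂_congr fun k _ => ?_
  rw [← flat_quot_iff (g.appLE V.1 U.1 e).hom ((cutι gs k).app U.1).hom
    ((globalIdeal (Ideal.ofList (gs.take k))).subschemeι_app_surjective U) _ (ker_cutι_app gs k U)]
  have he : (cutι gs k ≫ g).appLE V.1 (cutι gs k ⁻¹ᵁ U.1) ((cutι gs k).preimage_mono e) =
      g.appLE V.1 U.1 e ≫ (cutι gs k).app U.1 := by
    rw [Scheme.Hom.app_eq_appLE, Scheme.Hom.appLE_comp_appLE]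
  rw [he, CommRingCat.hom_comp]

/-- Transversal regularity of global sections can be checked on a cover. -/
theorem isTRPair_of_cover (g : X ⟶ T) (gs : List Γ(X, ⊤))
    (h : ∀ x : X, ∃ (U : X.affineOpens) (V : T.affineOpens) (e : U.1 ≤ g ⁻¹ᵁ V.1),
      x ∈ U.1 ∧ IsTRPair g gs U.1 V.1 e)
    (U : X.affineOpens) (V : T.affineOpens) (e : U.1 ≤ g ⁻¹ᵁ V.1) : IsTRPair g gs U.1 V.1 e := by
  refine (isTRPair_iff g gs U V e).mpr ⟨fun x _ => ?_, fun k hk => ?_⟩
  · obtain ⟨U', V', e', hx, h'⟩ := h x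
    exact ((isTRPair_iff g gs U' V' e').mp h').1 x hx
  · have hflat : Flat (cutι gs k ≫ g) := by
      rw [HasRingHomProperty.iff_exists_appLE (P := @Flat)
        (RingHom.Flat.stableUnderComposition.stableUnderCompositionWithLocalizationAway
          RingHom.Flat.holdsForLocalizationAway).1]
      intro z
      obtain ⟨U', V', e', hx, h'⟩ := h (cutι gs k z)
      exact ⟨V', ⟨cutι gs k ⁻¹ᵁ U'.1, U'.2.preimage _⟩, hx, (cutι gs k).preimage_mono e',
        ((isTRPair_iff g gs U' V' e').mp h').2 k hk⟩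
    exact HasRingHomProperty.appLE (P := @Flat) _ hflat V ⟨_, U.2.preimage _⟩ _

/-- The pair over an affine pullback chart. -/
theorem isTRPair_pullback_iff {X' T' : Scheme.{u}} {p : X' ⟶ X} {q : X' ⟶ T'} {g : X ⟶ T} {b : T' ⟶ T}
    (hsq : IsPullback p q g b) (gs : List Γ(X, ⊤)) {U : X.Opens} (hU : IsAffineOpen U) {V : T.Opens}
    (hV : IsAffineOpen V) (hle : U ≤ g ⁻¹ᵁ V) {O : T'.Opens} (hO : IsAffineOpen O) (hOV : O ≤ b ⁻¹ᵁ V) :
    IsAffineOpen (p ⁻¹ᵁ U ⊓ q ⁻¹ᵁ O) ∧
      (IsTRPair q (gs.map (fun s => p.appTop.hom s)) (p ⁻¹ᵁ U ⊓ q ⁻¹ᵁ O) O inf_le_right ↔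
        @TCond Γ(T, V) _ Γ(T', O) _ (b.appLE V O hOV).hom.toAlgebra Γ(X, U) _
          (g.appLE V U hle).hom.toAlgebra (resList U gs)) := by
  let W : X'.Opens := p ⁻¹ᵁ U ⊓ q ⁻¹ᵁ O
  have hW : IsAffineOpen W := by
    haveI : IsAffine _ := hV
    haveI : IsAffine _ := hO
    haveI : IsAffine _ := hU
    exact .of_isIso (Scheme.Hom.isPullback_resLE hsq hOV hle (UY := W) rfl).isoPullback.hom
  have hpo := (isIso_pushoutSection_iff hsq hOV hle (UY := W) rfl).mp
    (isIso_pushoutSection_of_isAffineOpen hsq hOV hle rfl hV hO hU)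
  refine ⟨hW, ?_⟩
  letI : Algebra Γ(T, V) Γ(X, U) := (g.appLE V U hle).hom.toAlgebra
  letI : Algebra Γ(T, V) Γ(T', O) := (b.appLE V O hOV).hom.toAlgebra
  letI : Algebra Γ(X, U) Γ(X', W) := (p.appLE U W inf_le_left).hom.toAlgebra
  letI : Algebra Γ(T', O) Γ(X', W) := (q.appLE O W inf_le_right).hom.toAlgebra
  letI : Algebra Γ(T, V) Γ(X', W) := (g.appLE V U hle ≫ p.appLE U W inf_le_left).hom.toAlgebra
  haveI : IsScalarTower Γ(T, V) Γ(X, U) Γ(X', W) := .of_algebraMap_eq fun _ => rfl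
  haveI : IsScalarTower Γ(T, V) Γ(T', O) Γ(X', W) := .of_algebraMap_eq fun r => congr($(hpo.w).hom r)
  haveI : Algebra.IsPushout Γ(T, V) Γ(T', O) Γ(X, U) Γ(X', W) :=
    CommRingCat.isPushout_iff_isPushout.mp hpo.flip
  have e : resList W (gs.map (fun s => p.appTop.hom s)) = (resList U gs).map (algebraMap Γ(X, U) Γ(X', W)) := by
    simp only [resList, List.map_map]
    refine List.map_congr_left fun s _ => ?_
    show (X'.presheaf.map _).hom ((p.app ⊤).hom s) = (p.appLE U W inf_le_left).hom ((X.presheaf.map _).hom s)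
    rw [← RingHom.comp_apply, ← RingHom.comp_apply, ← CommRingCat.hom_comp, ← CommRingCat.hom_comp,
      Scheme.Hom.map_appLE]
    rfl
  show @RegImm.IsTransRegularSeq Γ(T', O) Γ(X', W) _ _ _ (resList W (gs.map (fun s => p.appTop.hom s))) ↔ _
  rw [e]
  exact isTransRegularSeq_iff Γ(T', O) Γ(X', W) (resList U gs)

end Groth.Agent.RegPt
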