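import Groth.Agent.RegPt.TransImm

/-! A transversally regular immersion at the limit has good charts at a stage. -/

set_option autoImplicit false
set_option linter.style.haveILetI false
universe u

namespace Groth.Agent.RegPt

open AlgebraicGeometry CategoryTheory Limits LimModLib

/-- Transversal regularity over an affine pullback chart. -/
theorem trs_pullback_iff {X T X' T' : Scheme.{u}} {p : X' ⟶ X} {q : X' ⟶ T'} {g : X ⟶ T} {b : T' ⟶ T}
    (hsq : IsPullback p q g b) {U : X.Opens} (hU : IsAffineOpen U) {V : T.Opens}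
    (hV : IsAffineOpen V) (hle : U ≤ g ⁻¹ᵁ V) {O : T'.Opens} (hO : IsAffineOpen O) (hOV : O ≤ b ⁻¹ᵁ V)
    (rs : List Γ(X, U)) :
    IsAffineOpen (p ⁻¹ᵁ U ⊓ q ⁻¹ᵁ O) ∧
      (@RegImm.IsTransRegularSeq Γ(T', O) Γ(X', p ⁻¹ᵁ U ⊓ q ⁻¹ᵁ O) _ _
          (q.appLE O (p ⁻¹ᵁ U ⊓ q ⁻¹ᵁ O) inf_le_right).hom.toAlgebra
          (rs.map (p.appLE U (p ⁻¹ᵁ U ⊓ q ⁻¹ᵁ O) inf_le_left).hom) ↔
        @TCond Γ(T, V) _ Γ(T', O) _ (b.appLE V O hOV).hom.toAlgebra Γ(X, U) _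
          (g.appLE V U hle).hom.toAlgebra rs) := by
  let W : X'.Opens := p ⁻¹ᵁ U ⊓ q ⁻¹ᵁ O
  have hW : IsAffineOpen W := by
    haveI : IsAffine _ := hV
    haveI : IsAffine _ := hO
    haveI : IsAffine _ := hU
    exact .of_isIso (Scheme.Hom.isPullback_resLE hsq hOV hle (UY := W) rfl).isoPullback.hom
  have hpo := (isIso_pushoutSection_iff hsq hOV hle (UY := W) rfl).mp
    (isIso_pushoutSection_of_isAffineOpen hsq hOV hle rfl hV hO hU)
  refine ⟨hW, ?_⟩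
  letI : Algebra Γ(T, V) Γ(X, U) := (g.appLE V U hle).hom.toAlgebra
  letI : Algebra Γ(T, V) Γ(T', O) := (b.appLE V O hOV).hom.toAlgebra
  letI : Algebra Γ(X, U) Γ(X', W) := (p.appLE U W inf_le_left).hom.toAlgebra
  letI : Algebra Γ(T', O) Γ(X', W) := (q.appLE O W inf_le_right).hom.toAlgebra
  letI : Algebra Γ(T, V) Γ(X', W) := (g.appLE V U hle ≫ p.appLE U W inf_le_left).hom.toAlgebra
  haveI : IsScalarTower Γ(T, V) Γ(X, U) Γ(X', W) := .of_algebraMap_eq fun _ => rfl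
  haveI : IsScalarTower Γ(T, V) Γ(T', O) Γ(X', W) := .of_algebraMap_eq fun r => congr($(hpo.w).hom r)
  haveI : Algebra.IsPushout Γ(T, V) Γ(T', O) Γ(X, U) Γ(X', W) :=
    CommRingCat.isPushout_iff_isPushout.mp hpo.flip
  exact isTransRegularSeq_iff Γ(T', O) Γ(X', W) rs

theorem res_appLE_apply {X Y : Scheme.{u}} (f : X ⟶ Y) {U : Y.Opens} {V V' : X.Opens} (e : V ≤ f ⁻¹ᵁ U)
    (h : V' ≤ V) (a : Γ(Y, U)) :
    (X.presheaf.map (homOfLE h).op).hom ((f.appLE U V e).hom a) = (f.appLE U V' (h.trans e)).hom a := by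
  rw [← RingHom.comp_apply, ← CommRingCat.hom_comp, Scheme.Hom.appLE_map]

variable {X₀ Y₀ : Scheme.{u}} (j₀ : Y₀ ⟶ X₀)

/-- A transversally regular point gives a good chart. -/
theorem good_of_at [IsImmersion j₀] {X T Y : Scheme.{u}} {a : Y ⟶ Y₀} {i : Y ⟶ X} (q : X ⟶ T) (p : X ⟶ X₀)
    (hsq : IsPullback a i j₀ p) (z : Y) (h : RegImm.IsTransRegularImmersionAt q i z) :
    Good j₀ q p (i z) := by
  obtain ⟨⟨U', hU'⟩, ⟨V', hV'⟩, e, hx, hci', rs, hrs, hker⟩ := h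
  obtain ⟨W₀, hW₀, hzW₀, -, hci₀⟩ := KRegLib.exists_affine_isClosedImmersion_restrict j₀ (a z) ⊤ trivial
  have hxp : i z ∈ p ⁻¹ᵁ W₀ := by
    show p (i z) ∈ W₀
    rw [← Scheme.Hom.comp_apply, ← hsq.w, Scheme.Hom.comp_apply]
    exact hzW₀
  obtain ⟨W, hW, hxW, hle⟩ :=
    exists_isAffineOpen_mem_and_subset (x := i z) (U := U' ⊓ p ⁻¹ᵁ W₀) ⟨hx, hxp⟩
  have h1 : W ≤ U' := fun y hy => (hle hy).1
  have h2 : W ≤ p ⁻¹ᵁ W₀ := fun y hy => (hle hy).2
  refine ⟨⟨W₀, hW₀⟩, ⟨W, hW⟩, ⟨V', hV'⟩, h1.trans e, h2, hxW, hci₀, _,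
    isTransRegularSeq_res q ⟨U', hU'⟩ ⟨V', hV'⟩ e rs hrs ⟨W, hW⟩ ⟨V', hV'⟩ (h1.trans e) h1, ?_⟩
  rw [← (chart_baseChange hsq hW₀ hci₀ hW h2).2, (chart_res i hU' hci' hW h1).2, hker, Ideal.map_ofList]

variable {I : Type u} [SmallCategory I] [IsCofiltered I] {D : I ⥤ Scheme.{u}} {c : Cone D}

set_option maxHeartbeats 3200000 in
theorem exists_stage_good (hc : IsLimit c) [∀ {i j} (f : i ⟶ j), IsAffineHom (D.map f)] {i₀ : I}
    (g₀ : X₀ ⟶ D.obj i₀) [LocallyOfFinitePresentation g₀] [IsImmersion j₀] [LocallyOfFinitePresentation j₀]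
    {Y : Scheme.{u}} {a : Y ⟶ Y₀} {i : Y ⟶ pullback g₀ (c.π.app i₀)}
    (hsq : IsPullback a i j₀ (pullback.fst g₀ (c.π.app i₀))) (z : Y)
    (h : RegImm.IsTransRegularImmersionAt (pullback.snd g₀ (c.π.app i₀)) i z) :
    ∃ J : Over i₀, Good j₀ (pullback.snd g₀ (D.map J.hom)) (pullback.fst g₀ (D.map J.hom))
      (MorLib.BC.proj D g₀ (IsPullback.of_hasPullback g₀ (c.π.app i₀)) J (i z)) := by
  classical
  let hX := IsPullback.of_hasPullback g₀ (c.π.app i₀)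
  let DX := MorLib.BC.diag D g₀
  let cX := MorLib.BC.cone D g₀ hX
  have hcX : IsLimit cX := MorLib.BC.isLimitCone D g₀ hX hc
  haveI : ∀ {a b : Over i₀} (f : a ⟶ b), IsAffineHom (DX.map f) := fun f =>
    MorLib.BC.isAffineHom_map D g₀ f
  haveI : ∀ J, IsAffineHom (cX.π.app J) := fun J => isAffineHom_π_app DX cX hcX J
  haveI : ∀ j, IsAffineHom (c.π.app j) := fun j => isAffineHom_π_app D c hc j
  obtain ⟨⟨U', hU'⟩, ⟨V', hV'⟩, e, hx, hci', rs, hrs, hker⟩ := h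
  let x := i z
  have hfst : ∀ {A B : Over i₀} (g : A ⟶ B) (y : ↑(DX.obj A)),
      pullback.fst g₀ (D.map B.hom) (DX.map g y) = pullback.fst g₀ (D.map A.hom) y := fun g y =>
    congrArg (fun φ : (pullback g₀ (D.map _) : Scheme.{u}) ⟶ X₀ => φ.base y) (MorLib.BC.map_fst D g₀ g)
  have hsnd : ∀ {A B : Over i₀} (g : A ⟶ B) (y : ↑(DX.obj A)),
      pullback.snd g₀ (D.map B.hom) (DX.map g y) = D.map g.left (pullback.snd g₀ (D.map A.hom) y) := fun g y =>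
    congrArg (fun φ : (pullback g₀ (D.map _) : Scheme.{u}) ⟶ D.obj _ => φ.base y) (MorLib.BC.map_snd D g₀ g)
  obtain ⟨V₀, hV₀, hxV₀, -⟩ :=
    exists_isAffineOpen_mem_and_subset (x := g₀ (j₀ (a z))) (U := ⊤) trivial
  obtain ⟨W₀, hW₀, hzW₀, hW₀V, hci₀⟩ :=
    KRegLib.exists_affine_isClosedImmersion_restrict j₀ (a z) (g₀ ⁻¹ᵁ V₀) hxV₀
  have hxfst : pullback.fst g₀ (c.π.app i₀) x ∈ W₀ := by
    rw [← Scheme.Hom.comp_apply, ← hsq.w, Scheme.Hom.comp_apply]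
    exact hzW₀
  let T : Over i₀ := Over.mk (𝟙 i₀)
  let UT : (DX.obj T).Opens := pullback.fst g₀ (D.map T.hom) ⁻¹ᵁ W₀
  have hUT : IsAffineOpen UT := hW₀.preimage (pullback.fst g₀ (D.map T.hom))
  have hxP : x ∈ cX.π.app T ⁻¹ᵁ UT := by
    show pullback.fst g₀ (D.map T.hom) (MorLib.BC.proj D g₀ hX T x) ∈ W₀
    rw [← Scheme.Hom.comp_apply, MorLib.BC.proj_fst]
    exact hxfst
  obtain ⟨a', hale, hxa⟩ := (hUT.preimage (cX.π.app T)).exists_basicOpen_le (⟨x, hx⟩ : U') hxP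
  obtain ⟨j, f, t₀, e₀, ht₀⟩ := MorLib.IdealFG.exists_appLE_π_eq hcX hUT a'
  let Vj : (DX.obj j).Opens := (DX.obj j).basicOpen t₀
  have hVj : IsAffineOpen Vj := (hUT.preimage (DX.map f)).basicOpen t₀
  have hP' : cX.π.app j ⁻¹ᵁ Vj = cX.pt.basicOpen a' := by
    rw [← ht₀, Scheme.basicOpen_appLE]
    refine (inf_eq_right.mpr ?_).symm
    intro y hy
    show cX.π.app T y ∈ UT
    rw [← cX.w f, Scheme.Hom.comp_apply]
    exact (DX.obj j).basicOpen_le t₀ hy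
  have hP'U : cX.π.app j ⁻¹ᵁ Vj ≤ U' := by rw [hP']; exact hale
  obtain ⟨m, ψ, em, t, ht⟩ := exists_list_appLE_π_eq hcX hVj
    (rs.map ((pullback g₀ (c.π.app i₀)).presheaf.map (homOfLE hP'U).op).hom)
  let Vm : (DX.obj m).Opens := DX.map ψ ⁻¹ᵁ Vj
  have hVm : IsAffineOpen Vm := hVj.preimage (DX.map ψ)
  have hVmW : Vm ≤ pullback.fst g₀ (D.map m.hom) ⁻¹ᵁ W₀ := by
    intro y hy
    have : DX.map (ψ ≫ f) y ∈ UT := by
      rw [DX.map_comp, Scheme.Hom.comp_apply]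
      exact (DX.obj j).basicOpen_le t₀ hy
    have h2 : pullback.fst g₀ (D.map T.hom) (DX.map (ψ ≫ f) y) ∈ W₀ := this
    rw [hfst (ψ ≫ f) y] at h2
    exact h2
  let W' : cX.pt.Opens := limOpen cX Vm
  have hW'P : W' ≤ cX.π.app j ⁻¹ᵁ Vj := by
    intro y hy
    have : DX.map ψ (cX.π.app m y) ∈ Vj := hy
    rwa [← Scheme.Hom.comp_apply, cX.w] at this
  have hW'U : W' ≤ U' := hW'P.trans hP'U
  have hW' : IsAffineOpen W' := hVm.preimage (cX.π.app m)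
  have hxW' : x ∈ W' := em (by rw [hP']; exact hxa)
  have hW'fst : W' ≤ pullback.fst g₀ (c.π.app i₀) ⁻¹ᵁ W₀ := by
    intro y hy
    have : pullback.fst g₀ (D.map m.hom) (MorLib.BC.proj D g₀ hX m y) ∈ W₀ := hVmW hy
    rwa [← Scheme.Hom.comp_apply, MorLib.BC.proj_fst] at this
  have htW' : t.map ((cX.π.app m).appLE Vm W' le_rfl).hom =
      rs.map ((pullback g₀ (c.π.app i₀)).presheaf.map (homOfLE hW'U).op).hom := by
    have := congrArg (List.map (cX.pt.presheaf.map (homOfLE hW'P).op).hom) ht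
    rw [List.map_map, List.map_map] at this
    refine Eq.trans ?_ (this.trans ?_)
    · exact List.map_congr_left fun b _ => (res_appLE_apply (cX.π.app m) em hW'P b).symm
    · refine List.map_congr_left fun b _ => ?_
      exact (congr($((pullback g₀ (c.π.app i₀)).presheaf.map_comp (homOfLE hP'U).op (homOfLE hW'P).op) b)).symm
  -- the ideals at the stage
  let I₀ := RingHom.ker (j₀.app W₀).hom
  have hI₀ : I₀.FG := ker_fg_of_lfp j₀ hW₀ hci₀
  let L : Ideal Γ(DX.obj m, Vm) := I₀.map ((pullback.fst g₀ (D.map m.hom)).appLE W₀ Vm hVmW).hom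
  have hR : (Ideal.ofList t).FG := Submodule.fg_span t.finite_toSet
  obtain ⟨C, hCt, -⟩ := exists_algColim hcX hVm
  have hlim : L.map (algebraMap Γ(DX.obj m, Vm) Γ(cX.pt, W')) =
      (Ideal.ofList t).map (algebraMap Γ(DX.obj m, Vm) Γ(cX.pt, W')) := by
    show L.map ((cX.π.app m).appLE Vm W' le_rfl).hom = (Ideal.ofList t).map ((cX.π.app m).appLE Vm W' le_rfl).hom
    refine ((MorLib.IdealFG.map_appLE_map (cX.π.app m) (pullback.fst g₀ (D.map m.hom))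
      (pullback.fst g₀ (c.π.app i₀)) (MorLib.BC.proj_fst D g₀ hX m) hVmW le_rfl hW'fst I₀).trans
      ((chart_baseChange hsq hW₀ hci₀ hW' hW'fst).2.symm.trans ?_)).trans (Ideal.map_ofList _ _).symm
    refine ((chart_res i hU' hci' hW' hW'U).2.trans ?_).trans (congrArg Ideal.ofList htW').symm
    exact (congrArg (Ideal.map _) hker).trans (Ideal.map_ofList _ _)
  obtain ⟨k₁, -, hk₁⟩ := exists_map_le_stage C (Over.mk (𝟙 m)) (L := L) (hI₀.map _) hlim.le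
  obtain ⟨k, g₁, hk⟩ := exists_map_le_stage C k₁ hR hlim.ge
  have hk' : L.map (algebraMap Γ(DX.obj m, Vm) Γ(DX.obj k.left, stage Vm k)) =
      (Ideal.ofList t).map (algebraMap Γ(DX.obj m, Vm) Γ(DX.obj k.left, stage Vm k)) := by
    refine le_antisymm ?_ hk
    have := Ideal.map_mono (f := (C.t g₁).toRingHom) hk₁
    rwa [Ideal.map_map, Ideal.map_map, AlgHom.toRingHom_eq_coe, AlgHom.comp_algebraMap] at this
  -- the stage `l`
  let l : Over i₀ := k.left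
  let Vl : (DX.obj l).Opens := stage Vm k
  have hVl : IsAffineOpen Vl := hVm.preimage (DX.map k.hom)
  have hVlW : Vl ≤ pullback.fst g₀ (D.map l.hom) ⁻¹ᵁ W₀ := by
    intro y hy
    have h2 : pullback.fst g₀ (D.map m.hom) (DX.map k.hom y) ∈ W₀ := hVmW hy
    rw [hfst k.hom y] at h2
    exact h2
  let Ol : (D.obj l.left).Opens := D.map l.hom ⁻¹ᵁ V₀
  have hOl : IsAffineOpen Ol := hV₀.preimage (D.map l.hom)
  have hVlO : Vl ≤ pullback.snd g₀ (D.map l.hom) ⁻¹ᵁ Ol := by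
    intro y hy
    show D.map l.hom (pullback.snd g₀ (D.map l.hom) y) ∈ V₀
    rw [← Scheme.Hom.comp_apply, ← pullback.condition, Scheme.Hom.comp_apply]
    exact hW₀V (hVlW hy)
  let tl : List Γ(DX.obj l, Vl) := t.map ((DX.map k.hom).appLE Vm Vl le_rfl).hom
  have hkl : I₀.map ((pullback.fst g₀ (D.map l.hom)).appLE W₀ Vl hVlW).hom = Ideal.ofList tl := by
    exact ((MorLib.IdealFG.map_appLE_map (DX.map k.hom) (pullback.fst g₀ (D.map m.hom))
      (pullback.fst g₀ (D.map l.hom)) (MorLib.BC.map_fst D g₀ k.hom) hVmW le_rfl hVlW I₀).symm.trans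
      hk').trans (Ideal.map_ofList _ _)
  -- transversal regularity descends
  letI : Algebra Γ(D.obj l.left, Ol) Γ(DX.obj l, Vl) :=
    ((pullback.snd g₀ (D.map l.hom)).appLE Ol Vl hVlO).hom.toAlgebra
  haveI : Algebra.FinitePresentation Γ(D.obj l.left, Ol) Γ(DX.obj l, Vl) := by
    haveI : LocallyOfFinitePresentation (pullback.snd g₀ (D.map l.hom)) :=
      MorphismProperty.pullback_snd _ _ inferInstance
    exact (pullback.snd g₀ (D.map l.hom)).finitePresentation_appLE hOl hVl hVlO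
  obtain ⟨C', hCt', -⟩ := exists_algColim hc hOl
  have hid : ∀ (K : Over l.left) (y : Γ(D.obj K.left, stage Ol K)), C'.t (𝟙 K) y = y := fun K y => by
    rw [hCt', appLE_congr' (show D.map (Over.Hom.left (𝟙 K)) = 𝟙 _ by rw [Over.id_left, D.map_id])]
    simp only [Scheme.Hom.appLE, Scheme.Hom.id_app]
    exact congr($((D.obj K.left).presheaf.map_id _) y)
  obtain ⟨hW'', hiff⟩ := trs_pullback_iff (MorLib.BC.isPullback_proj D g₀ hX l) hVl hOl hVlO
    (hOl.preimage (c.π.app l.left)) le_rfl tl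
  have hle'' : MorLib.BC.proj D g₀ hX l ⁻¹ᵁ Vl ⊓
      pullback.snd g₀ (c.π.app i₀) ⁻¹ᵁ (c.π.app l.left ⁻¹ᵁ Ol) ≤ W' := by
    rintro y ⟨hy, -⟩
    have : DX.map k.hom (cX.π.app l y) ∈ Vm := hy
    rwa [← Scheme.Hom.comp_apply, cX.w] at this
  have hlim' : TCond Γ(D.obj l.left, Ol) Γ(c.pt, limOpen c Ol) tl := by
    refine hiff.mp ?_
    have := isTransRegularSeq_res (pullback.snd g₀ (c.π.app i₀)) ⟨U', hU'⟩ ⟨V', hV'⟩ e rs hrs
      ⟨_, hW''⟩ ⟨_, hOl.preimage (c.π.app l.left)⟩ inf_le_right (hle''.trans hW'U)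
    refine Eq.mpr (congrArg (fun rs' => @RegImm.IsTransRegularSeq Γ(c.pt, c.π.app l.left ⁻¹ᵁ Ol) _ _ _
      ((pullback.snd g₀ (c.π.app i₀)).appLE _ _ inf_le_right).hom.toAlgebra rs') ?_) this
    refine (List.map_map).trans ?_
    have h2 := (List.map_map).symm.trans
      ((congrArg (List.map (cX.pt.presheaf.map (homOfLE hle'').op).hom) htW').trans List.map_map)
    refine Eq.trans ?_ (h2.trans ?_)
    · refine List.map_congr_left fun b _ => ?_
      exact (MorLib.IdealFG.appLE_appLE_apply (cX.π.app l) (DX.map k.hom) (cX.π.app m) (cX.w k.hom)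
        le_rfl inf_le_left (hle''.trans le_rfl) b).trans (res_appLE_apply (cX.π.app m) le_rfl hle'' b).symm
    · refine List.map_congr_left fun b _ => ?_
      exact (congr($((pullback g₀ (c.π.app i₀)).presheaf.map_comp (homOfLE hW'U).op (homOfLE hle'').op) b)).symm
  obtain ⟨k₂, hk₂⟩ := exists_tcond C' hid hlim'
  let K : Over i₀ := Over.mk (k₂.hom ≫ l.hom)
  let g : K ⟶ l := Over.homMk k₂.hom
  obtain ⟨hWK, hiffK⟩ := trs_pullback_iff (MorLib.BC.isPullback_map D g₀ g) hVl hOl hVlO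
    (hOl.preimage (D.map k₂.hom)) le_rfl tl
  have hKW : DX.map g ⁻¹ᵁ Vl ⊓ pullback.snd g₀ (D.map K.hom) ⁻¹ᵁ stage Ol k₂ ≤
      pullback.fst g₀ (D.map K.hom) ⁻¹ᵁ W₀ := by
    rintro y ⟨hy, -⟩
    have h2 : pullback.fst g₀ (D.map l.hom) (DX.map g y) ∈ W₀ := hVlW hy
    rw [hfst g y] at h2
    exact h2
  refine ⟨K, ⟨W₀, hW₀⟩, ⟨_, hWK⟩, ⟨_, hOl.preimage (D.map k₂.hom)⟩, inf_le_right, hKW, ?_, hci₀,
    tl.map ((DX.map g).appLE Vl _ inf_le_left).hom, hiffK.mpr hk₂, ?_⟩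
  · have h1 : DX.map g (MorLib.BC.proj D g₀ hX K x) = MorLib.BC.proj D g₀ hX l x :=
      congrArg (fun φ : cX.pt ⟶ DX.obj l => φ.base x) (cX.w g)
    have h2 : DX.map k.hom (MorLib.BC.proj D g₀ hX l x) = MorLib.BC.proj D g₀ hX m x :=
      congrArg (fun φ : cX.pt ⟶ DX.obj m => φ.base x) (cX.w k.hom)
    have hVlx : MorLib.BC.proj D g₀ hX l x ∈ Vl := by
      show DX.map k.hom (MorLib.BC.proj D g₀ hX l x) ∈ Vm
      rw [h2]; exact hxW'
    refine ⟨?_, ?_⟩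
    · show DX.map g (MorLib.BC.proj D g₀ hX K x) ∈ Vl
      rw [h1]; exact hVlx
    · show D.map k₂.hom (pullback.snd g₀ (D.map K.hom) (MorLib.BC.proj D g₀ hX K x)) ∈ Ol
      have h3 := hVlO hVlx
      rw [← h1] at h3
      exact (hsnd g (MorLib.BC.proj D g₀ hX K x)) ▸ h3
  · exact ((MorLib.IdealFG.map_appLE_map (DX.map g) (pullback.fst g₀ (D.map l.hom))
      (pullback.fst g₀ (D.map K.hom)) (MorLib.BC.map_fst D g₀ g) hVlW inf_le_left hKW I₀).symm.trans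
      (congrArg (Ideal.map _) hkl)).trans (Ideal.map_ofList _ _)

end Groth.Agent.RegPt
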